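import Groth.Agent.Tors32.Twist
import Groth.Agent.Tors32.Main
import Mathlib.FieldTheory.PurelyInseparable.Basic
import Mathlib.FieldTheory.SeparableClosure
import Mathlib.FieldTheory.AlgebraicClosure

/-!
Over a finite separable extension the automorphisms fix all geometric points of a finite group.
-/

set_option autoImplicit false
set_option backward.isDefEq.respectTransparency false
universe u

open CategoryTheory CategoryTheory.Limits AlgebraicGeometry IntermediateField
open Groth.Agent.DualTor32 (spO topO spOMap)
open Groth.Agent.Tors32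

noncomputable section

namespace Groth.Agent.Sha32

variable {K : Type u} [Field K]

/-- A finite separable extension over which all homomorphisms to algebraically closed fields are
purely inseparable. -/
theorem exists_fix_field (H : Type u) [CommRing H] [Algebra K H] [Module.Finite K H] :
    ∃ (K' : Type u) (_ : Field K') (_ : Algebra K K'), FiniteDimensional K K' ∧ Algebra.IsSeparable K K' ∧
      ∀ (Ω : Type u) [Field Ω] [IsAlgClosed Ω] [Algebra K Ω] [Algebra K' Ω] [IsScalarTower K K' Ω]
        (σ : Ω →ₐ[K'] Ω) (φ : H →ₐ[K] Ω) (h : H), σ (φ h) = φ h := by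
  classical
  obtain ⟨n, g, hg⟩ := Module.Finite.exists_fin (R := K) (M := H)
  let Ω₀ := AlgebraicClosure K
  let S : Set Ω₀ := Set.range fun p : (H →ₐ[K] Ω₀) × Fin n => p.1 (g p.2)
  have hSfin : S.Finite := Set.finite_range _
  let N := IntermediateField.adjoin K S
  have : FiniteDimensional K N :=
    have := hSfin.to_subtype; finiteDimensional_adjoin fun x _ => Algebra.IsIntegral.isIntegral x
  let K' := separableClosure K N
  refine ⟨K', inferInstance, inferInstance, inferInstance, inferInstance, ?_⟩
  intro Ω _ _ _ _ _ σ φ h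
  have hpi : IsPurelyInseparable K' N := separableClosure.isPurelyInseparable K N
  let E := algebraicClosure K' Ω
  have : Algebra.IsAlgebraic K' E := algebraicClosure.isAlgebraic K' Ω
  have hmem : ∀ h : H, φ h ∈ E := fun h => by
    rw [mem_algebraicClosure_iff']
    exact ((Algebra.IsIntegral.isIntegral (R := K) h).map φ).tower_top
  let φE : H →ₐ[K] E := φ.codRestrict (E.restrictScalars K).toSubalgebra hmem
  let ι : E →ₐ[K'] Ω₀ := IsAlgClosed.lift
  have hN : ι.restrictScalars K (φE h) ∈ N := by
    have hh : h ∈ Submodule.span K (Set.range g) := hg ▸ Submodule.mem_top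
    induction hh using Submodule.span_induction with
    | mem z hz =>
      obtain ⟨i, rfl⟩ := hz
      exact subset_adjoin K S ⟨((ι.restrictScalars K).comp φE, i), rfl⟩
    | zero => rw [map_zero, map_zero]; exact zero_mem _
    | add a b _ _ ha hb => rw [map_add, map_add]; exact add_mem ha hb
    | smul c a _ ha => rw [map_smul, map_smul]; exact N.smul_mem ha
  obtain ⟨m, c, hc⟩ := IsPurelyInseparable.pow_mem K' (ringExpChar K') (⟨_, hN⟩ : N)
  have h1 : ι (φE h ^ ringExpChar K' ^ m) = ι (algebraMap K' E c) := by
    rw [map_pow, ι.commutes]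
    exact (congrArg (algebraMap N Ω₀) hc).symm.trans (IsScalarTower.algebraMap_apply K' N Ω₀ c).symm
  have h2 : φ h ^ ringExpChar K' ^ m = algebraMap K' Ω c := congrArg (algebraMap E Ω) (ι.injective h1)
  have : ExpChar Ω (ringExpChar K') := expChar_of_injective_algebraMap (algebraMap K' Ω).injective _
  refine iterateFrobenius_inj Ω (ringExpChar K') m ?_
  rw [iterateFrobenius_def, iterateFrobenius_def, ← map_pow, h2, σ.commutes]

variable (G : Over (Spec (CommRingCat.of K))) {M : Type u} [Field M] [Algebra K M]

/-- Automorphisms fixing the values fix the points. -/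
theorem spOMap_comp_eq {H : Type u} [CommRing H] [Algebra K H] (eG : spO (A := K) H ≅ G) {Ω : Type u} [Field Ω]
    [Algebra M Ω] [Algebra K Ω] [IsScalarTower K M Ω] (σ : Ω →ₐ[M] Ω)
    (hσ : ∀ (φ : H →ₐ[K] Ω) (h : H), σ (φ h) = φ h)
    (g : spO (A := M) Ω ⟶ Red.bc (spHom (A := K) M) G) : spOMap Ω σ ≫ g = g := by
  apply Over.OverMorphism.ext
  apply pullback.hom_ext
  · let g' := g.left ≫ pullback.fst G.hom (spHom (A := K) M) ≫ eG.inv.left
    obtain ⟨ψ, hψ⟩ := Spec.map_surjective g'
    have hψK : CommRingCat.ofHom (algebraMap K H) ≫ ψ = CommRingCat.ofHom (algebraMap K Ω) := by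
      apply Spec.map_injective
      rw [Spec.map_comp, hψ]
      show (g.left ≫ pullback.fst G.hom (spHom (A := K) M) ≫ eG.inv.left) ≫ (spO (A := K) H).hom = _
      rw [Category.assoc, Category.assoc, Over.w eG.inv, pullback.condition]
      erw [reassoc_of% (Over.w g)]
      show Spec.map _ ≫ Spec.map _ = _
      rw [← Spec.map_comp, ← CommRingCat.ofHom_comp, IsScalarTower.algebraMap_eq K M Ω]
    let φ : H →ₐ[K] Ω := { toRingHom := ψ.hom, commutes' := fun c => ConcreteCategory.congr_hom hψK c }
    have h1 : Spec.map (CommRingCat.ofHom σ.toRingHom) ≫ g' = g' := by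
      rw [← hψ, ← Spec.map_comp]
      congr 1
      exact CommRingCat.hom_ext (RingHom.ext fun h => hσ φ h)
    have h2 := congrArg (fun k => k ≫ eG.hom.left) h1
    simp only [g', Category.assoc] at h2
    rw [← Over.comp_left, eG.inv_hom_id, Over.id_left, Category.comp_id] at h2
    show (Spec.map _ ≫ g.left) ≫ pullback.fst _ _ = g.left ≫ pullback.fst _ _
    rw [Category.assoc]
    exact h2
  · exact (Over.w (spOMap Ω σ ≫ g)).trans (Over.w g).symm

end Groth.Agent.Sha32
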