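import Groth.Agent.Sha32.Count
import Groth.Agent.FF30.Galois
import Groth.Prelude.Def_AdFn

/-!
A finite Galois extension embedding in all completions is trivial.
-/

set_option autoImplicit false
universe u

open FunFld WithZero
open Groth.Agent.FF30

noncomputable section

namespace Groth.Agent.Sha32

variable {k M L : Type u} [Field k] [Field M] [Algebra k M] [Field L] [Algebra M L] [Algebra k L]
  [IsScalarTower k M L]

/-- The place given by an embedding in a completion. -/
def placeOfEmb (v : Place k M) (ι : L →ₐ[M] AdFn.Kv v) : Place k L :=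
  ⟨(Valued.v : Valuation (AdFn.Kv v) (WithZero (Multiplicative ℤ))).comap ι.toRingHom, fun c => by
      rw [IsScalarTower.algebraMap_apply k M L, Valuation.comap_apply]
      change Valued.v (ι (algebraMap M L _)) ≤ 1
      rw [ι.commutes, AdFn.valued_toKv]
      exact v.2.1 c,
    fun z => by
      obtain ⟨x, hx⟩ := v.2.2 z
      refine ⟨algebraMap M L x, ?_⟩
      rw [Valuation.comap_apply]
      change Valued.v (ι (algebraMap M L x)) = z
      rw [ι.commutes, AdFn.valued_toKv, hx]⟩

theorem placeOfEmb_apply (v : Place k M) (ι : L →ₐ[M] AdFn.Kv v) (y : L) :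
    (placeOfEmb v ι).1 y = Valued.v (ι y) := rfl

theorem isOverWith_placeOfEmb (v : Place k M) (ι : L →ₐ[M] AdFn.Kv v) : IsOverWith (placeOfEmb v ι) v 1 :=
  fun x => by rw [placeOfEmb_apply, ι.commutes, AdFn.valued_toKv, pow_one]

theorem exists_val_sub_lt (v : Place k M) (y : AdFn.Kv v) :
    ∃ x : M, Valued.v (y - algebraMap M (AdFn.Kv v) x) < 1 := by
  have hd : DenseRange (algebraMap M (AdFn.Kv v)) := by
    have h := UniformSpace.Completion.denseRange_coe (α := WithVal v.1)
    exact h.comp (WithVal.equiv v.1).symm.surjective.denseRange (UniformSpace.Completion.continuous_coe _)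
  have hnhds : {z : AdFn.Kv v | (Valued.v : Valuation (AdFn.Kv v) _).restrict (z - y) < 1} ∈ nhds y :=
    Valued.mem_nhds.2 ⟨1, fun z hz => by simpa using hz⟩
  obtain ⟨x, hx⟩ := hd.mem_nhds hnhds
  refine ⟨x, ?_⟩
  rw [Valuation.map_sub_swap]
  have h1 := (Valuation.restrict_lt_iff_lt_embedding _).1 hx
  rwa [map_one] at h1

theorem deg_placeOfEmb (v : Place k M) (ι : L →ₐ[M] AdFn.Kv v) : (placeOfEmb v ι).deg = v.deg := by
  set Q := placeOfEmb v ι
  have hover := isOverWith_placeOfEmb v ι
  let g : v.O →+* Q.O :=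
    ((algebraMap M L).comp v.O.subtype).codRestrict Q.O.toSubring fun x =>
      (isOverWith_le_one_iff hover x.1).2 x.2
  have : IsLocalHom g := ⟨fun x hx => by
    by_contra hnu
    have h1 : v.1 x.1 < 1 := (Valuation.mem_maximalIdeal_iff _ v.1).1 ((IsLocalRing.mem_maximalIdeal _).2 hnu)
    have h2 : Q.1 (g x).1 < 1 := lt_of_eq_of_lt (hover x.1) (by rw [pow_one]; exact h1)
    exact (IsLocalRing.mem_maximalIdeal _).1 ((Valuation.mem_maximalIdeal_iff _ Q.1).2 h2) hx⟩
  let g' := IsLocalRing.ResidueField.map g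
  have hb : Function.Bijective g' := ⟨g'.injective, fun z => by
    obtain ⟨y, rfl⟩ := IsLocalRing.residue_surjective z
    obtain ⟨x, hx⟩ := exists_val_sub_lt v (ι y.1)
    have hxQ : Q.1 (y.1 - algebraMap M L x) < 1 := by
      rw [placeOfEmb_apply, map_sub, ι.commutes]
      exact hx
    have hxv : v.1 x ≤ 1 := by
      rw [← isOverWith_le_one_iff hover, ← sub_sub_cancel y.1 (algebraMap M L x)]
      exact Q.1.map_sub_le y.2 hxQ.le
    refine ⟨IsLocalRing.residue _ ⟨x, hxv⟩, ?_⟩
    rw [IsLocalRing.ResidueField.map_residue]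
    refine ((Ideal.Quotient.eq).2 ?_).symm
    exact (Valuation.mem_maximalIdeal_iff _ Q.1).2 hxQ⟩
  have hc : ∀ c : k, RingEquiv.ofBijective g' hb (algebraMap k _ c) =
      algebraMap k (IsLocalRing.ResidueField Q.O) c := fun c => by
    show g' (IsLocalRing.residue v.O (algebraMap k v.O c)) = IsLocalRing.residue Q.O (algebraMap k Q.O c)
    rw [IsLocalRing.ResidueField.map_residue]
    congr 1
    exact Subtype.ext (IsScalarTower.algebraMap_apply k M L c).symm
  exact ((AlgEquiv.ofRingEquiv (f := RingEquiv.ofBijective g' hb) hc).toLinearEquiv.finrank_eq).symm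

/-- A finite Galois extension embedding in all completions is trivial. -/
theorem finrank_eq_one_of_emb [Finite k] (h : FF k M) [FiniteDimensional M L] [IsGalois M L]
    (hι : ∀ v : Place k M, Nonempty (L →ₐ[M] AdFn.Kv v)) : Module.finrank M L = 1 := by
  refine finrank_eq_one_of_split h fun P Q hQ => ?_
  obtain ⟨ι⟩ := hι P
  have hover := isOverWith_placeOfEmb P ι
  obtain ⟨σ, rfl⟩ := h.exists_placeComap_eq ⟨1, hover⟩ hQ
  exact ⟨ramIdx_eq (isOverWith_placeComap hover σ), (deg_placeComap _ σ).trans (deg_placeOfEmb P ι)⟩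

end Groth.Agent.Sha32
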