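import Groth.Agent.Tors32.Lift
import Groth.Agent.Tors32.Main
import Mathlib.FieldTheory.IsAlgClosed.Basic

/-!
The torsor of a first cohomology class of a finite group over a field, as a finite algebra.
-/

set_option autoImplicit false
set_option backward.isDefEq.respectTransparency false
universe u

open CategoryTheory CategoryTheory.Limits AlgebraicGeometry Opposite MonoidalCategory CartesianMonoidalCategory MonObj
open TensorProduct
open Groth.Agent.DualTor32 (spO topO spOMap pr₁ pr₂ pair_lift)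
open Groth.Agent.Tors32

noncomputable section

namespace Groth.Agent.Sha32

theorem flat_of_field {M : Type u} [Field M] {X : Scheme.{u}} [IsAffine X] (g : X ⟶ Spec (CommRingCat.of M)) :
    Flat g := by
  obtain ⟨φ, hφ⟩ := Spec.map_surjective (X.isoSpec.inv ≫ g)
  rw [← Iso.hom_inv_id_assoc X.isoSpec g, ← hφ]
  have : Flat (Spec.map φ) := (HasRingHomProperty.Spec_iff (P := @Flat)).2 (by
    algebraize [φ.hom]
    exact RingHom.flat_algebraMap_iff.2 inferInstance)
  infer_instance

theorem exists_algHom {M : Type u} [CommRing M] {A B : Type u} [CommRing A] [CommRing B] [Algebra M A] [Algebra M B]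
    (y : spO (A := M) B ⟶ spO (A := M) A) : ∃ φ : A →ₐ[M] B, spOMap A φ = y := by
  obtain ⟨φ, hφ⟩ := Spec.map_surjective y.left
  have h : CommRingCat.ofHom (algebraMap M A) ≫ φ = CommRingCat.ofHom (algebraMap M B) :=
    Spec.map_injective (by rw [Spec.map_comp, hφ]; exact Over.w y)
  exact ⟨{ toRingHom := φ.hom, commutes' := fun c => ConcreteCategory.congr_hom h c }, Over.OverMorphism.ext hφ⟩

theorem spOMap_injective {M : Type u} [CommRing M] {A B : Type u} [CommRing A] [CommRing B] [Algebra M A] [Algebra M B]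
    {φ ψ : A →ₐ[M] B} (h : spOMap A φ = spOMap A ψ) : φ = ψ := by
  have h1 : Spec.map (CommRingCat.ofHom φ.toRingHom) = Spec.map (CommRingCat.ofHom ψ.toRingHom) :=
    congrArg (fun k => k.left) h
  exact AlgHom.ext fun a => ConcreteCategory.congr_hom (Spec.map_injective h1) a

variable {K : Type u} [Field K] {M : Type u} [Field M] [Algebra K M]

/-- The sheaf of points restricted to an extension. -/
abbrev FM (G : Over (Spec (CommRingCat.of K))) [GrpObj G] [IsCommMonObj G] :
    BigSite.Ab Scheme.fppfPrecoverage (Spec (CommRingCat.of M)) :=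
  (BigSite.pullBig Scheme.fppfPrecoverage (spHom (A := K) M) AddCommGrpCat.{u + 1}).obj
    (CGrpSh.pts Scheme.fppfPrecoverage G)

/-- The torsor of a class. -/
theorem exists_torsor (G : Over (Spec (CommRingCat.of K))) [GrpObj G] [IsCommMonObj G] [IsFinite G.hom]
    (x : BigSite.H Scheme.fppfPrecoverage (Spec (CommRingCat.of M)) (FM (M := M) G) 1) :
    ∃ (L : Type u) (_ : CommRing L) (_ : Algebra M L), Module.Finite M L ∧
      (Nonempty (L →ₐ[M] M) → x = 0) ∧
      (∀ (E : Type u) [Field E] [Algebra M E],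
        HRes.pull Scheme.fppfPrecoverage (spHom (A := M) E) (FM (M := M) G) 1 x = 0 → Nonempty (L →ₐ[M] E)) ∧
      (∀ (Ω : Type u) [Field Ω] [Algebra M Ω] [IsAlgClosed Ω] (σ : Ω →ₐ[M] Ω),
        (∀ g : spO (A := M) Ω ⟶ Red.bc (spHom (A := K) M) G, spOMap Ω σ ≫ g = g) →
          ∀ ψ ψ' : L →ₐ[M] Ω, σ.comp ψ = ψ → σ.comp ψ' = ψ') := by
  let f := spHom (A := K) M
  let GO := Red.bc f G
  have : IsFinite GO.hom := MorphismProperty.pullback_snd (P := @IsFinite) _ _ ‹_›
  have : IsAffine GO.left := isAffine_of_isAffineHom GO.hom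
  have : Flat GO.hom := flat_of_field GO.hom
  obtain ⟨I, Qs, inc, prj, w, hI, hS⟩ := exists_injective_ses (FM (M := M) G)
  obtain ⟨q, rfl⟩ := delta_surjective (S := ShortComplex.mk inc prj w) hS x
  have : Epi prj := hS.epi_g
  have : Sheaf.IsLocallySurjective prj := (Sheaf.isLocallySurjective_iff_epi' AddCommGrpCat.{u + 1} prj).2 inferInstance
  obtain ⟨C, _, _, hCf, hCfin, hCnt, t, ht⟩ :=
    exists_local_cover (O := M) (Presheaf.imageSieve_mem _ prj.hom q)
  let W := spO (A := M) C
  have htop : ∀ {Z : Over (Spec (CommRingCat.of M))} (a : Z ⟶ W),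
      prj.hom.app (op Z) (I.obj.map a.op t) = Qs.obj.map (Over.mkIdTerminal.from Z).op q := fun {Z} a => by
    rw [NatTrans.naturality_apply, ht, map_map_apply, Over.mkIdTerminal.hom_ext (a ≫ _) (Over.mkIdTerminal.from Z)]
  obtain ⟨d, hd⟩ := exists_app_f_eq hS (U := spO (A := M) (C ⊗[M] C))
    (a := I.obj.map (pr₂ M C).op t - I.obj.map (pr₁ M C).op t)
    (by rw [map_sub]; erw [htop, htop]; exact sub_self _)
  have hinj : ∀ Z, Function.Injective (inc.hom.app (op Z)) := fun Z => app_f_injective hS Z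
  have hd' : ∀ {Z : Over (Spec (CommRingCat.of M))} (h : Z ⟶ spO (A := M) (C ⊗[M] C)),
      inc.hom.app (op Z) ((FM (M := M) G).obj.map h.op d) =
        I.obj.map (h ≫ pr₂ M C).op t - I.obj.map (h ≫ pr₁ M C).op t := fun {Z} h => by
    rw [NatTrans.naturality_apply]
    erw [hd]
    rw [map_sub, map_map_apply, map_map_apply]
  obtain ⟨c, hc⟩ := exists_cocycle GO (toPt f G _ d) fun Z q₁₂ q₂₃ q₁₃ e₁ e₂ e₃ => by
    rw [← toPt_map, ← toPt_map, ← toPt_map, ← toPt_add]
    congr 1
    apply hinj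
    rw [map_add, hd', hd', hd', ← e₁, e₃, e₂]
    abel
  have hWs : Surjective W.hom := ⟨PrimeSpectrum.comap_surjective_of_faithfullyFlat (B := C)⟩
  have hWf : Flat W.hom := (HasRingHomProperty.Spec_iff (P := @Flat)).2 (RingHom.flat_algebraMap_iff.2 inferInstance)
  have : IsAffineHom W.hom := inferInstanceAs (IsAffineHom (Spec.map _))
  have : IsAffineHom GO.hom := inferInstance
  obtain ⟨U, e, he, hec⟩ := Push96.exists_twist c
  have hinv : ∀ {Z Z' : Over (Spec (CommRingCat.of M))} (k : Z' ⟶ Z) (b : Z ⟶ W) (g : Z ⟶ GO),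
      (e (k ≫ b)).symm (k ≫ g) = k ≫ (e b).symm g := fun k b g =>
    (e (k ≫ b)).injective (by rw [Equiv.apply_symm_apply, he, Equiv.apply_symm_apply])
  let i : W ⊗ U ≅ W ⊗ GO :=
    { hom := lift (fst _ _) (e (fst _ _) (snd _ _))
      inv := lift (fst _ _) ((e (fst _ _)).symm (snd _ _))
      hom_inv_id := by
        refine CartesianMonoidalCategory.hom_ext _ _ (by simp) ?_
        rw [Category.assoc, lift_snd, ← hinv, lift_fst, lift_snd, Equiv.symm_apply_apply, Category.id_comp]
      inv_hom_id := by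
        refine CartesianMonoidalCategory.hom_ext _ _ (by simp) ?_
        rw [Category.assoc, lift_snd, ← he, lift_fst, lift_snd, Equiv.apply_symm_apply, Category.id_comp] }
  have hif : i.hom ≫ fst W GO = fst W U := lift_fst _ _
  have hfst : IsFinite (pullback.fst W.hom U.hom) := by
    have h : pullback.fst W.hom U.hom = i.hom.left ≫ pullback.fst W.hom GO.hom :=
      (congrArg (fun k => k.left) hif).symm
    rw [h]
    have : IsIso i.hom.left := inferInstanceAs (IsIso ((Over.forget _).mapIso i).hom)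
    exact MorphismProperty.comp_mem @IsFinite _ _ inferInstance (MorphismProperty.pullback_fst _ _ ‹_›)
  have : IsFinite U.hom := by
    have := Unr55.isFinite.{u}
    exact MorphismProperty.of_isPullback_of_descendsAlong (P := @IsFinite) (Q := Unr55.fpqc)
      (IsPullback.of_hasPullback W.hom U.hom) ⟨⟨hWs, hWf⟩, inferInstance⟩ hfst
  have : IsAffine U.left := isAffine_of_isAffineHom U.hom
  obtain ⟨L, _, _, ⟨eU⟩⟩ := exists_spO_iso U
  have hLfin : Module.Finite M L := finite_of_isFinite (by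
    rw [← Over.w eU.hom]; exact MorphismProperty.comp_mem @IsFinite _ _ inferInstance ‹_›)
  have : IsIso (Spec.map (CommRingCat.ofHom (algebraMap M M))) := by
    rw [show CommRingCat.ofHom (algebraMap M M) = 𝟙 _ from rfl, Spec.map_id]
    infer_instance
  -- the values of a point of the cocycle
  have hc' : ∀ {Z : Over (Spec (CommRingCat.of M))} (a b : Z ⟶ W),
      ∃ h : Z ⟶ spO (A := M) (C ⊗[M] C), h ≫ pr₁ M C = a ∧ h ≫ pr₂ M C = b ∧ c.c a b = h ≫ toPt f G _ d := by
    intro Z a b
    obtain ⟨h, h₁, h₂⟩ := pair_lift M C Z a b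
    exact ⟨h, h₁, h₂, by rw [← hc, h₁, h₂]⟩
  have hcover : ∀ Z₀ : Over (Spec (CommRingCat.of M)),
      Sieve.ofArrows (fun _ : PUnit.{1} => W ⊗ Z₀) (fun _ => snd W Z₀) ∈
        QuotSh.J Scheme.fppfPrecoverage (Spec (CommRingCat.of M)) Z₀ := fun Z₀ => by
    refine GrothendieckTopology.superset_covering _ ?_
      ((QuotSh.J Scheme.fppfPrecoverage (Spec (CommRingCat.of M))).pullback_stable
        (Over.mkIdTerminal.from Z₀) (singleton_cover (A := M) C))
    intro V k hk
    obtain ⟨_, a, -⟩ := (Sieve.mem_ofArrows_iff _ _ _).1 hk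
    exact (Sieve.mem_ofArrows_iff _ _ _).2 ⟨PUnit.unit, lift a k, (lift_snd a k).symm⟩
  refine ⟨L, inferInstance, inferInstance, hLfin, ?_, ?_, ?_⟩
  · -- a rational point trivialises the class
    rintro ⟨ψ⟩
    let y : topO M ⟶ U := Over.homMk (Spec.map (CommRingCat.ofHom ψ.toRingHom) ≫ eU.hom.left) (by
      show (_ ≫ _) ≫ U.hom = 𝟙 _
      rw [Category.assoc, Over.w eU.hom]
      show Spec.map _ ≫ Spec.map _ = _
      rw [← Spec.map_comp, ← CommRingCat.ofHom_comp]
      erw [ψ.comp_algebraMap]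
      exact Spec.map_id _)
    obtain ⟨mu, hmu⟩ := (toPt_bijective f G W).2 (e (𝟙 W) (Over.mkIdTerminal.from W ≫ y))
    obtain ⟨t', ht'⟩ := exists_descend I (Over.mkIdTerminal.from W) (singleton_cover (A := M) C)
      (t - inc.hom.app (op W) mu) fun Z a b hab => by
        obtain ⟨h, h₁, h₂, h₃⟩ := hc' a b
        have hmu' : (FM (M := M) G).obj.map b.op mu =
            (FM (M := M) G).obj.map a.op mu + (FM (M := M) G).obj.map h.op d := by
          apply (toPt_bijective f G Z).1
          rw [toPt_add, toPt_map, toPt_map, toPt_map, hmu, ← h₃, ← he, ← he, Category.comp_id, Category.comp_id,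
            ← Category.assoc, ← Category.assoc, Over.mkIdTerminal.hom_ext (a ≫ _) (b ≫ Over.mkIdTerminal.from W),
            hec a b]
        have h4 := congrArg (inc.hom.app (op Z)) hmu'
        rw [map_add, hd', h₁, h₂, NatTrans.naturality_apply, NatTrans.naturality_apply] at h4
        rw [map_sub, map_sub, h4]
        abel
    refine (delta_eq_zero_iff hS q).2 ⟨t', ext_of_cover Qs _ (singleton_cover (A := M) C) ?_⟩
    rw [← NatTrans.naturality_apply, ht', map_sub]
    erw [app_g_f (S := ShortComplex.mk inc prj w) mu]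
    rw [sub_zero]
    exact ht
  · -- a trivialisation gives a point
    intro E _ _ hx
    obtain ⟨tE, htE⟩ := (delta_eq_zero_iff _ _).1 ((pull_delta (spHom (A := M) E) hS q).symm.trans hx)
    let Z₀ := spO (A := M) E
    obtain ⟨tZ, htZ⟩ : ∃ tZ, prj.hom.app (op Z₀) tZ = Qs.obj.map (Over.mkIdTerminal.from Z₀).op q := by
      refine ⟨I.obj.map (topSpIso (A := M) E).hom.op tE, ?_⟩
      refine (NatTrans.naturality_apply prj.hom (topSpIso (A := M) E).hom.op tE).trans ?_
      refine (congrArg (fun z => Qs.obj.map (topSpIso (A := M) E).hom.op z) htE).trans ?_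
      refine (map_map_apply Qs _ _ q).trans ?_
      exact congrArg (fun k => Qs.obj.map (Quiver.Hom.op k) q) (Over.mkIdTerminal.hom_ext _ _)
    obtain ⟨mu, hmu⟩ := exists_app_f_eq hS (U := W ⊗ Z₀)
      (a := I.obj.map (fst W Z₀).op t - I.obj.map (snd W Z₀).op tZ) (by
        rw [map_sub]
        erw [htop, NatTrans.naturality_apply, htZ, map_map_apply,
          Over.mkIdTerminal.hom_ext (snd W Z₀ ≫ _) (Over.mkIdTerminal.from (W ⊗ Z₀))]
        exact sub_self _)
    let s : W ⊗ Z₀ ⟶ U := (e (fst W Z₀)).symm (toPt f G _ mu)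
    have hs : ∀ {Z : Over (Spec (CommRingCat.of M))} (a b : Z ⟶ W ⊗ Z₀), a ≫ snd _ _ = b ≫ snd _ _ →
        a ≫ s = b ≫ s := fun {Z} a b hab => by
      obtain ⟨h, h₁, h₂, h₃⟩ := hc' (a ≫ fst W Z₀) (b ≫ fst W Z₀)
      have hmu' : (FM (M := M) G).obj.map b.op mu =
          (FM (M := M) G).obj.map a.op mu + (FM (M := M) G).obj.map h.op d := by
        apply hinj
        rw [map_add, hd', h₁, h₂, NatTrans.naturality_apply, NatTrans.naturality_apply]
        erw [hmu]
        rw [map_sub, map_sub, map_map_apply, map_map_apply, map_map_apply, map_map_apply, hab]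
        abel
      apply (e (b ≫ fst W Z₀)).injective
      rw [hec (a ≫ fst W Z₀) (b ≫ fst W Z₀) (a ≫ s), he, he, Equiv.apply_symm_apply, ← toPt_map, ← toPt_map, h₃,
        ← toPt_map, ← toPt_add, hmu']
    have hsh := GrothendieckTopology.Subcanonical.isSheaf_of_isRepresentable
      (J := QuotSh.J Scheme.fppfPrecoverage (Spec (CommRingCat.of M))) (yoneda.obj U) _ (hcover Z₀)
    rw [Sieve.ofArrows, ← Presieve.isSheafFor_iff_generate] at hsh
    obtain ⟨y, -, -⟩ := (Presieve.isSheafFor_arrows_iff _ _).1 hsh (fun _ => s) fun _ _ Z a b h => hs a b h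
    obtain ⟨ψ, -⟩ := exists_algHom (y ≫ eU.inv : Z₀ ⟶ spO (A := M) L)
    exact ⟨ψ⟩
  · -- invariance of points
    intro Ω _ _ _ σ hg ψ ψ' hψ
    obtain ⟨m, hm⟩ := Ideal.exists_maximal C
    let _ : Field (C ⧸ m) := Ideal.Quotient.field m
    have : Algebra.IsAlgebraic M (C ⧸ m) := Algebra.IsAlgebraic.of_finite M _
    let α : C →ₐ[M] Ω := (IsAlgClosed.lift : (C ⧸ m) →ₐ[M] Ω).comp (Ideal.Quotient.mkₐ M m)
    let a := spOMap C α
    let s := spOMap Ω σ
    let pt : (L →ₐ[M] Ω) → (spO (A := M) Ω ⟶ U) := fun φ => spOMap L φ ≫ eU.hom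
    have hpt : ∀ φ, s ≫ pt φ = pt (σ.comp φ) := fun φ => by
      simp only [s, pt]
      rw [← Category.assoc, spOMap_comp]
    have key : ∀ φ : L →ₐ[M] Ω, e (s ≫ a) (pt (σ.comp φ)) = s ≫ e a (pt φ) := fun φ => by rw [← hpt, he]
    have h3 : ∀ φ, s ≫ e a (pt φ) = e a (pt φ) := fun φ => hg _
    have h4 : e (s ≫ a) (pt (σ.comp ψ')) = e (s ≫ a) (pt ψ') := by
      have h5 : e (s ≫ a) (pt ψ) = e a (pt ψ) := by
        conv_lhs => rw [← hψ]
        rw [key, h3]
      rw [hec a (s ≫ a) (pt ψ), mul_eq_left] at h5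
      rw [key, h3, hec a (s ≫ a) (pt ψ'), h5, _root_.mul_one]
    have h5 := congrArg (fun k => k ≫ eU.inv) ((e (s ≫ a)).injective h4)
    simp only [pt, Category.assoc, Iso.hom_inv_id, Category.comp_id] at h5
    exact spOMap_injective h5

end Groth.Agent.Sha32
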