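import Groth.Agent.Sha32.LocSep
import Groth.Agent.Sha32.Split
import Groth.Agent.Sha32.Torsor
import Groth.Agent.Sha32.Fix
import Groth.Agent.FF30.FF

/-!
Everywhere locally trivial classes of a finite group vanish when the automorphisms fix the points.
-/

set_option autoImplicit false
set_option backward.isDefEq.respectTransparency false
universe u

open CategoryTheory CategoryTheory.Limits AlgebraicGeometry IntermediateField
open Groth.Agent.DualTor32 (spO topO spOMap)
open Groth.Agent.Tors32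

noncomputable section

namespace Groth.Agent.Sha32

theorem mem_range_of_fixed {F Ω : Type u} [Field F] [Field Ω] [Algebra F Ω] [IsAlgClosed Ω] [Algebra.IsAlgebraic F Ω]
    {y : Ω} (hy : IsSeparable F y) (h : ∀ σ : Gal(Ω/F), σ y = y) : y ∈ Set.range (algebraMap F Ω) := by
  classical
  have : IsAlgClosure F Ω := ⟨inferInstance, inferInstance⟩
  have hN : Normal F Ω := IsAlgClosure.normal F Ω
  have hint : IsIntegral F y := Algebra.IsIntegral.isIntegral y
  have hroot : ∀ z ∈ (minpoly F y).aroots Ω, z = y := fun z hz => by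
    rw [Polynomial.mem_aroots] at hz
    have he : minpoly F y = minpoly F z :=
      minpoly.eq_of_irreducible_of_monic (minpoly.irreducible hint) hz.2 (minpoly.monic hint)
    obtain ⟨σ, hσ⟩ := MulAction.mem_orbit_iff.1 ((@Normal.minpoly_eq_iff_mem_orbit F _ Ω _ _ hN z y).1 he.symm)
    exact hσ.symm.trans (h σ)
  have hcard : ((minpoly F y).aroots Ω).card ≤ 1 := by
    rw [← Multiset.toFinset_card_of_nodup (Polynomial.nodup_roots (Polynomial.Separable.map hy))]
    exact Finset.card_le_one.2 fun a ha b hb =>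
      (hroot a (Multiset.mem_toFinset.1 ha)).trans (hroot b (Multiset.mem_toFinset.1 hb)).symm
  rw [Polynomial.aroots, IsAlgClosed.card_roots_eq_natDegree, Polynomial.natDegree_map] at hcard
  exact (minpoly.natDegree_eq_one_iff).1 (le_antisymm hcard (minpoly.natDegree_pos hint))

theorem ff_of_ratFunc {k M : Type u} [Field k] [Field M] [Algebra (RatFunc k) M] [FiniteDimensional (RatFunc k) M]
    [Algebra k M] [IsScalarTower k (RatFunc k) M] : FF30.FF k M := by
  let t : M := algebraMap (RatFunc k) M RatFunc.X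
  have ht : Transcendental k t := fun h =>
    (RatFunc.transcendental_X (K := k)) ((isAlgebraic_algebraMap_iff (algebraMap (RatFunc k) M).injective).1 h)
  let L := IntermediateField.adjoin k ({t} : Set M)
  have hmem : ∀ a : RatFunc k, algebraMap (RatFunc k) M a ∈ L := by
    intro a
    have hp : ∀ f : Polynomial k, algebraMap (RatFunc k) M (algebraMap (Polynomial k) (RatFunc k) f) ∈ L := by
      intro f
      rw [show algebraMap (Polynomial k) (RatFunc k) f = Polynomial.aeval RatFunc.X f from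
        (RatFunc.aeval_X_left_eq_algebraMap f).symm, ← IsScalarTower.coe_toAlgHom' k (RatFunc k) M,
        ← Polynomial.aeval_algHom_apply]
      exact IntermediateField.algebra_adjoin_le_adjoin k _
        (Algebra.adjoin_singleton_eq_range_aeval k t ▸ ⟨f, rfl⟩)
    rw [← RatFunc.num_div_denom a, map_div₀]
    exact div_mem (hp _) (hp _)
  let _ : Algebra (RatFunc k) L := ((algebraMap (RatFunc k) M).codRestrict L.toSubfield hmem).toAlgebra
  have : IsScalarTower (RatFunc k) L M := IsScalarTower.of_algebraMap_eq fun _ => rfl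
  exact ⟨t, ht, Module.Finite.of_restrictScalars_finite (RatFunc k) L M⟩

variable {k K M : Type u} [Field k] [Finite k] [Field K] [Field M] [Algebra K M] [Algebra (RatFunc k) M]
  [FiniteDimensional (RatFunc k) M] [Algebra k M] [IsScalarTower k (RatFunc k) M]

/-- Everywhere locally trivial classes vanish. -/
theorem eq_zero_of_local (G : Over (Spec (CommRingCat.of K))) [GrpObj G] [IsCommMonObj G] [IsFinite G.hom]
    (hfix : ∀ (Ω : Type u) [Field Ω] [IsAlgClosed Ω] [Algebra M Ω] (σ : Ω →ₐ[M] Ω)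
      (g : spO (A := M) Ω ⟶ Red.bc (spHom (A := K) M) G), spOMap Ω σ ≫ g = g)
    (x : BigSite.H Scheme.fppfPrecoverage (Spec (CommRingCat.of M)) (FM (M := M) G) 1)
    (hx : ∀ v : FunFld.Place k M,
      HRes.pull Scheme.fppfPrecoverage (spHom (A := M) (AdFn.Kv v)) (FM (M := M) G) 1 x = 0) : x = 0 := by
  classical
  obtain ⟨L, _, _, _, hzero, hpoint, hfixed⟩ := exists_torsor G x
  obtain ⟨n, g, hg⟩ := Module.Finite.exists_fin (R := M) (M := L)
  let Ω := AlgebraicClosure M
  let S : Set Ω := Set.range fun p : (L →ₐ[M] Ω) × Fin n => p.1 (g p.2)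
  have hSfin : S.Finite := Set.finite_range _
  let N := IntermediateField.adjoin M S
  have : FiniteDimensional M N :=
    have := hSfin.to_subtype
    finiteDimensional_adjoin fun x _ => Algebra.IsIntegral.isIntegral x
  have hNmem : ∀ (ψ : L →ₐ[M] Ω) (l : L), ψ l ∈ N := fun ψ l => by
    have hl : l ∈ Submodule.span M (Set.range g) := hg ▸ Submodule.mem_top
    induction hl using Submodule.span_induction with
    | mem z hz => obtain ⟨i, rfl⟩ := hz; exact subset_adjoin M S ⟨(ψ, i), rfl⟩
    | zero => rw [map_zero]; exact zero_mem _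
    | add a b _ _ ha hb => rw [map_add]; exact add_mem ha hb
    | smul c a _ ha => rw [map_smul]; exact N.smul_mem ha
  have : Normal M N := normal_iff_forall_map_le'.2 fun σ => by
    rw [IntermediateField.adjoin_map, adjoin_le_iff]
    rintro _ ⟨_, ⟨⟨ψ, i⟩, rfl⟩, rfl⟩
    exact hNmem ((σ : Ω →ₐ[M] Ω).comp ψ) (g i)
  let L' := separableClosure M N
  have hFF : FF30.FF k M := ff_of_ratFunc
  have hemb : ∀ v : FunFld.Place k M, Nonempty (L' →ₐ[M] AdFn.Kv v) := fun v => by
    obtain ⟨ψv⟩ := hpoint (AdFn.Kv v) (hx v)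
    let Ωv := AlgebraicClosure (AdFn.Kv v)
    let ι : Ω →ₐ[M] Ωv := IsAlgClosed.lift
    let ψ₀ : L →ₐ[M] Ωv := (IsScalarTower.toAlgHom M (AdFn.Kv v) Ωv).comp ψv
    have hfixN : ∀ (τ : Gal(Ωv/AdFn.Kv v)) (y : Ω), y ∈ N → τ (ι y) = ι y := fun τ y hy => by
      have h1 : ∀ ψ : L →ₐ[M] Ω, ((τ : Ωv →ₐ[AdFn.Kv v] Ωv).restrictScalars M).comp (ι.comp ψ) = ι.comp ψ :=
        fun ψ => hfixed Ωv _ (fun g => hfix Ωv _ g) ψ₀ _ (AlgHom.ext fun l => τ.commutes (ψv l))
      have hle : N ≤ IntermediateField.comap ι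
          ((IntermediateField.fixedField (Subgroup.zpowers τ)).restrictScalars M) := by
        rw [adjoin_le_iff]
        rintro _ ⟨⟨ψ, i⟩, rfl⟩
        show ι (ψ (g i)) ∈ IntermediateField.fixedField (Subgroup.zpowers τ)
        rw [mem_fixedField_iff]
        rintro _ ⟨m, rfl⟩
        exact MulAction.mem_stabilizer_iff.1
          (Subgroup.zpow_mem _ (MulAction.mem_stabilizer_iff.2
            (show τ • ι (ψ (g i)) = ι (ψ (g i)) from AlgHom.congr_fun (h1 ψ) (g i))) m)
      exact (mem_fixedField_iff _ _).1 (hle hy) τ (Subgroup.mem_zpowers τ)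
    have hrange : ∀ y : L', ι (algebraMap N Ω y.1) ∈ Set.range (algebraMap (AdFn.Kv v) Ωv) := fun y => by
      refine mem_range_of_fixed ?_ fun τ => hfixN τ _ y.1.2
      exact (IsSeparable.map ((ι.comp (IsScalarTower.toAlgHom M N Ω))) (RingHom.injective _)
        (mem_separableClosure_iff.1 y.2)).tower_top (AdFn.Kv v)
    let R : IntermediateField M Ωv := (IsScalarTower.toAlgHom M (AdFn.Kv v) Ωv).fieldRange
    let e : L' →ₐ[M] R := (ι.comp ((IsScalarTower.toAlgHom M N Ω).comp L'.val)).codRestrict R.toSubalgebra hrange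
    exact ⟨(AlgEquiv.ofInjectiveField (IsScalarTower.toAlgHom M (AdFn.Kv v) Ωv)).symm.toAlgHom.comp e⟩
  have hL' : L' = ⊥ := IntermediateField.finrank_eq_one_iff.1 (finrank_eq_one_of_emb hFF hemb)
  obtain ⟨v⟩ : Nonempty (FunFld.Place k M) := hFF.nonempty_place
  obtain ⟨ψv⟩ := hpoint (AdFn.Kv v) (hx v)
  -- a geometric point with values in the ground field
  let E := algebraicClosure M (AdFn.Kv v)
  have : Algebra.IsAlgebraic M E := algebraicClosure.isAlgebraic M _
  have hE : ∀ l, ψv l ∈ E := fun l => (mem_algebraicClosure_iff').2 ((Algebra.IsIntegral.isIntegral l).map ψv)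
  let ψE : L →ₐ[M] E := ψv.codRestrict E.toSubalgebra hE
  let ι₀ : E →ₐ[M] Ω := IsAlgClosed.lift
  let ψ : L →ₐ[M] Ω := ι₀.comp ψE
  have hM : ∀ l, ψ l ∈ (⊥ : IntermediateField M Ω) := fun l => by
    have hsE : IsSeparable M (ψE l) :=
      IsSeparable.of_algHom E.val (isSeparable_Kv v (Algebra.IsAlgebraic.isAlgebraic (R := M) (ψE l) |>.algHom E.val))
    have hs : IsSeparable M (⟨ψ l, hNmem ψ l⟩ : N) :=
      IsSeparable.of_algHom (IsScalarTower.toAlgHom M N Ω) (hsE.map ι₀ ι₀.injective)
    have hmem : (⟨ψ l, hNmem ψ l⟩ : N) ∈ L' := mem_separableClosure_iff.2 hs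
    rw [hL', IntermediateField.mem_bot] at hmem
    obtain ⟨c, hc⟩ := hmem
    exact IntermediateField.mem_bot.2
      ⟨c, (IsScalarTower.algebraMap_apply M N Ω c).trans (congrArg (algebraMap N Ω) hc)⟩
  exact hzero ⟨(IntermediateField.botEquiv M Ω).toAlgHom.comp (ψ.codRestrict (⊥ : IntermediateField M Ω).toSubalgebra hM)⟩

end Groth.Agent.Sha32
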