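import Groth.Agent.Sha32.Torsor
import Groth.Agent.RedPts82.Points
import Groth.Prelude.Def_AutFam
import Mathlib.RingTheory.Jacobson.Artinian
import Mathlib.RingTheory.TensorProduct.Free

/-!
The scheme of characters of a finite group over a field is finite.
-/

set_option autoImplicit false
set_option backward.isDefEq.respectTransparency false
universe u

open CategoryTheory CategoryTheory.Limits AlgebraicGeometry MonoidalCategory CartesianMonoidalCategory MonObj
open TensorProduct
open Groth.Agent.DualTor32 (spO topO spOMap)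
open Groth.Agent.Tors32

noncomputable section

namespace Groth.Agent.Sha32

/-- Finitely many units with `Δ u = u ⊗ u`. -/
theorem finite_grpLike {k A : Type u} [Field k] [CommRing A] [Algebra k A] [Module.Finite k A]
    (Δ : A →ₐ[k] A ⊗[k] A) : Finite {u : Aˣ // Δ (u : A) = (u : A) ⊗ₜ (u : A)} := by
  classical
  cases subsingleton_or_nontrivial A
  · exact inferInstance
  refine LinearIndependent.finite (R := k) (M := A) (f := fun u : {u : Aˣ // Δ (u : A) = (u : A) ⊗ₜ (u : A)} => ((u : Aˣ) : A)) ?_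
  rw [linearIndependent_iff_finset_linearIndependent]
  intro s
  induction s using Finset.induction_on with
  | empty => exact linearIndependent_empty_type
  | insert u s hu ih =>
    set f : {u : Aˣ // Δ (u : A) = (u : A) ⊗ₜ (u : A)} → A := fun u => ((u : Aˣ) : A)
    have ih' : LinearIndepOn k f (s : Set _) := ih
    show LinearIndepOn k f ((insert u s : Finset _) : Set _)
    rw [Finset.coe_insert]
    refine ih'.insert fun hmem => ?_
    rw [Submodule.mem_span_image_iff_exists_fun] at hmem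
    obtain ⟨t, ht, c, hc⟩ := hmem
    have ht' : LinearIndependent k (fun a : t => f a) := ih'.mono ht
    have hf : ∀ a : t, Δ (f a) = f a ⊗ₜ f a := fun a => a.1.2
    have h1 : f u ⊗ₜ[k] f u = ∑ a : t, c a • (f a ⊗ₜ[k] f a) := by
      rw [show f u ⊗ₜ[k] f u = Δ (f u) from u.2.symm, ← hc, map_sum]
      simp only [map_smul, hf]
    rw [← hc, TensorProduct.sum_tmul] at h1
    simp only [TensorProduct.tmul_sum, TensorProduct.smul_tmul', TensorProduct.tmul_smul, smul_smul] at h1
    have hind := ht'.tmul_of_isDomain ht'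
    have h2 : ∀ a b : t, c a * c b = if a = b then c a else 0 := by
      have h3 : ∑ p : t × t, (c p.1 * c p.2 - if p.1 = p.2 then c p.1 else 0) •
          (f p.1 ⊗ₜ[k] f p.2) = 0 := by
        rw [Fintype.sum_prod_type]
        simp only [sub_smul, Finset.sum_sub_distrib, ite_smul, zero_smul, Finset.sum_ite_eq,
          Finset.mem_univ, if_true, sub_eq_zero]
        simp only [TensorProduct.smul_tmul']
        rw [← h1]
        refine Finset.sum_congr rfl fun a _ => Finset.sum_congr rfl fun b _ => ?_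
        rw [_root_.mul_comm]
      intro a b
      exact sub_eq_zero.1 (Fintype.linearIndependent_iff.1 hind _ h3 (a, b))
    by_cases h : ∃ a, c a ≠ 0
    · obtain ⟨a, ha⟩ := h
      have hone : c a = 1 := by
        have := h2 a a
        rw [if_pos rfl] at this
        exact mul_left_cancel₀ ha (this.trans (_root_.mul_one _).symm)
      have hzero : ∀ b, b ≠ a → c b = 0 := fun b hb => by
        have := h2 a b
        rw [if_neg (Ne.symm hb), hone, _root_.one_mul] at this
        exact this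
      rw [Finset.sum_eq_single a (fun b _ hb => by rw [hzero b hb, zero_smul]) (by simp), hone, one_smul] at hc
      have : u = a.1 := Subtype.ext (Units.ext hc.symm)
      exact hu (this ▸ ht a.2)
    · simp only [not_exists, not_not] at h
      refine (u : Aˣ).ne_zero ?_
      rw [show ((u : Aˣ) : A) = f u from rfl, ← hc]
      simp [h]

variable {K : Type u} [Field K]

theorem finite_chars (G : Over (Spec (CommRingCat.of K))) [GrpObj G] [IsFinite G.hom] (Ω : Type u) [Field Ω]
    [Algebra K Ω] :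
    Finite {φ : G ⊗ spO (A := K) Ω ⟶ Red.Gm (Spec (CommRingCat.of K)) //
      AutFam.IsHomFamily G (Red.Gm (Spec (CommRingCat.of K))) φ} := by
  have : IsAffine G.left := isAffine_of_isAffineHom G.hom
  obtain ⟨H, _, _, ⟨eG⟩⟩ := exists_spO_iso G
  have : Module.Finite K H := finite_of_isFinite (by
    rw [← Over.w eG.hom]; exact MorphismProperty.comp_mem @IsFinite _ _ inferInstance ‹_›)
  obtain ⟨eb⟩ := nonempty_bcIso (O := Ω) H G eG
  let Z := spO (A := K) Ω
  let R := Ω ⊗[K] H
  let P := spO (A := K) R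
  let eP : P ≅ G ⊗ Z := Over.isoMk ((Over.forget _).mapIso eb) (by
    show eb.hom.left ≫ pullback.fst G.hom (Spec.map (CommRingCat.ofHom (algebraMap K Ω))) ≫ G.hom = _
    rw [pullback.condition]
    erw [reassoc_of% (Over.w eb.hom)]
    show Spec.map _ ≫ Spec.map _ = Spec.map _
    rw [← Spec.map_comp, ← CommRingCat.ofHom_comp, IsScalarTower.algebraMap_eq K Ω R])
  have hsnd : eP.hom ≫ snd G Z = spOMap Ω (IsScalarTower.toAlgHom K Ω R) := Over.OverMorphism.ext (Over.w eb.hom)
  let il : R →ₐ[K] R ⊗[Ω] R := (Algebra.TensorProduct.includeLeft : R →ₐ[Ω] R ⊗[Ω] R).restrictScalars K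
  let ir : R →ₐ[K] R ⊗[Ω] R := (Algebra.TensorProduct.includeRight : R →ₐ[Ω] R ⊗[Ω] R).restrictScalars K
  let X := spO (A := K) (R ⊗[Ω] R)
  let q₁ : X ⟶ P := spOMap R il
  let q₂ : X ⟶ P := spOMap R ir
  let t : X ⟶ Z := spOMap Ω (IsScalarTower.toAlgHom K Ω (R ⊗[Ω] R))
  have ht₁ : q₁ ≫ eP.hom ≫ snd G Z = t := by
    rw [hsnd, spOMap_comp]
    exact congrArg (spOMap Ω) (AlgHom.ext fun a =>
      (Algebra.TensorProduct.includeLeft : R →ₐ[Ω] R ⊗[Ω] R).commutes a)
  have ht₂ : q₂ ≫ eP.hom ≫ snd G Z = t := by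
    rw [hsnd, spOMap_comp]
    exact congrArg (spOMap Ω) (AlgHom.ext fun a =>
      (Algebra.TensorProduct.includeRight : R →ₐ[Ω] R ⊗[Ω] R).commutes a)
  let g₁ : X ⟶ G := q₁ ≫ eP.hom ≫ fst G Z
  let g₂ : X ⟶ G := q₂ ≫ eP.hom ≫ fst G Z
  let m : X ⟶ P := lift (g₁ * g₂) t ≫ eP.inv
  obtain ⟨δ, hδ⟩ := exists_algHom m
  have hδΩ : ∀ a : Ω, δ (algebraMap Ω R a) = algebraMap Ω (R ⊗[Ω] R) a := fun a => by
    have h1 : spOMap Ω (δ.comp (IsScalarTower.toAlgHom K Ω R)) = spOMap Ω (IsScalarTower.toAlgHom K Ω (R ⊗[Ω] R)) := by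
      rw [← spOMap_comp, hδ, ← hsnd]
      simp only [m, Category.assoc, Iso.inv_hom_id_assoc]
      exact lift_snd _ _
    exact AlgHom.congr_fun (spOMap_injective h1) a
  let Δ : R →ₐ[Ω] R ⊗[Ω] R := { toRingHom := δ.toRingHom, commutes' := hδΩ }
  let toR : (P ⟶ Red.Gm (Spec (CommRingCat.of K))) → R := fun p =>
    (Scheme.ΓSpecIso (CommRingCat.of R)).hom (Red.gmFn p)
  have hnat : ∀ (φ : R →ₐ[K] R ⊗[Ω] R) (p : P ⟶ Red.Gm (Spec (CommRingCat.of K))),
      (Scheme.ΓSpecIso (CommRingCat.of (R ⊗[Ω] R))).hom (Red.gmFn (spOMap R φ ≫ p)) = φ (toR p) := fun φ p => by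
    rw [RedPts82.gmFn_comp]
    exact ConcreteCategory.congr_hom (Scheme.ΓSpecIso_naturality (CommRingCat.ofHom φ.toRingHom)) (Red.gmFn p)
  have key : ∀ φ : G ⊗ Z ⟶ Red.Gm (Spec (CommRingCat.of K)), AutFam.IsHomFamily G (Red.Gm _) φ →
      Δ (toR (eP.hom ≫ φ)) = toR (eP.hom ≫ φ) ⊗ₜ toR (eP.hom ≫ φ) := fun φ hφ => by
    have h := hφ X g₁ g₂ t
    have hl₁ : lift g₁ t = q₁ ≫ eP.hom := by
      refine CartesianMonoidalCategory.hom_ext _ _ ?_ ?_
      · rw [lift_fst, Category.assoc]
      · rw [lift_snd, Category.assoc, ht₁]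
    have hl₂ : lift g₂ t = q₂ ≫ eP.hom := by
      refine CartesianMonoidalCategory.hom_ext _ _ ?_ ?_
      · rw [lift_fst, Category.assoc]
      · rw [lift_snd, Category.assoc, ht₂]
    have hm : lift (g₁ * g₂) t = spOMap R δ ≫ eP.hom := by simp [hδ, m]
    rw [hl₁, hl₂, hm, Category.assoc, Category.assoc, Category.assoc] at h
    have h' := congrArg (fun p => (Scheme.ΓSpecIso (CommRingCat.of (R ⊗[Ω] R))).hom (Red.gmFn p)) h
    rw [RedPts82.gmFn_mul, map_mul, hnat, hnat, hnat] at h'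
    refine h'.trans ?_
    show (toR _ ⊗ₜ[Ω] (1 : R)) * ((1 : R) ⊗ₜ[Ω] toR _) = _
    rw [Algebra.TensorProduct.tmul_mul_tmul, _root_.mul_one, _root_.one_mul]
  have := finite_grpLike Δ
  refine Finite.of_injective (fun φ : {φ : G ⊗ Z ⟶ Red.Gm (Spec (CommRingCat.of K)) //
      AutFam.IsHomFamily G (Red.Gm _) φ} => (⟨((RedPts82.gmFn_isUnit (eP.hom ≫ φ.1)).map
        (Scheme.ΓSpecIso (CommRingCat.of R)).hom.hom).unit, key φ.1 φ.2⟩ : {u : Rˣ // Δ (u : R) = (u : R) ⊗ₜ (u : R)}))
    fun φ ψ e => Subtype.ext ((cancel_epi eP.hom).1 (RedPts82.gmFn_injective ?_))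
  exact (Scheme.ΓSpecIso (CommRingCat.of R)).commRingCatIsoToRingEquiv.injective
    (congrArg (fun u => ((u.1 : Rˣ) : R)) e)

/-- The scheme of characters is finite. -/
theorem isFinite_charScheme (G : Over (Spec (CommRingCat.of K))) [GrpObj G] [IsFinite G.hom]
    (D : Over (Spec (CommRingCat.of K))) (υ : G ⊗ D ⟶ Red.Gm (Spec (CommRingCat.of K)))
    (hD : AutFam.RepresentsHom G (Red.Gm _) D υ) [IsAffineHom D.hom] [LocallyOfFiniteType D.hom] :
    IsFinite D.hom := by
  have : IsAffine D.left := isAffine_of_isAffineHom D.hom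
  obtain ⟨A, _, _, ⟨eD⟩⟩ := exists_spO_iso D
  have : Algebra.FiniteType K A := by
    rw [← RingHom.finiteType_algebraMap]
    refine (HasRingHomProperty.Spec_iff (P := @LocallyOfFiniteType) (φ := CommRingCat.ofHom (algebraMap K A))).1 ?_
    show LocallyOfFiniteType (spO (A := K) A).hom
    rw [← Over.w eD.hom]
    infer_instance
  let Ω := AlgebraicClosure K
  have hchar := finite_chars G Ω
  have : Finite (A →ₐ[K] Ω) := by
    have hpt : Finite (spO (A := K) Ω ⟶ D) :=
      Finite.of_injective (fun a => (⟨(G ◁ a) ≫ υ, fun X g₁ g₂ t => by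
          simp only [lift_whiskerLeft_assoc]
          exact hD.1 X g₁ g₂ (t ≫ a)⟩ : {φ : G ⊗ spO (A := K) Ω ⟶ Red.Gm _ // AutFam.IsHomFamily G (Red.Gm _) φ}))
        fun a b e => (hD.2 _ _ (fun X g₁ g₂ t => by
          simp only [lift_whiskerLeft_assoc]
          exact hD.1 X g₁ g₂ (t ≫ b))).unique (congrArg Subtype.val e) rfl
    exact Finite.of_injective (fun φ => spOMap A φ ≫ eD.hom) fun φ ψ e => spOMap_injective ((cancel_mono eD.hom).1 e)
  have : IsNoetherianRing A := Algebra.FiniteType.isNoetherianRing K A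
  have hpt : ∀ m : MaximalSpectrum A, ∃ φ : A →ₐ[K] Ω, RingHom.ker φ = m.asIdeal := fun m => by
    let _ := Ideal.Quotient.field m.asIdeal
    have : Module.Finite K (A ⧸ m.asIdeal) := finite_of_finite_type_of_isJacobsonRing K (A ⧸ m.asIdeal)
    have : Algebra.IsAlgebraic K (A ⧸ m.asIdeal) := Algebra.IsAlgebraic.of_finite K _
    refine ⟨(IsAlgClosed.lift : (A ⧸ m.asIdeal) →ₐ[K] Ω).comp (Ideal.Quotient.mkₐ K m.asIdeal), Ideal.ext fun a => ?_⟩
    rw [RingHom.mem_ker, AlgHom.comp_apply, _root_.map_eq_zero]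
    exact Ideal.Quotient.eq_zero_iff_mem
  choose pt hpt using hpt
  have : Finite (MaximalSpectrum A) := Finite.of_injective pt fun m m' e =>
    MaximalSpectrum.ext (by rw [← hpt m, ← hpt m', e])
  have : IsJacobsonRing A := isJacobsonRing_of_finiteType (A := K)
  have : Ring.KrullDimLE 0 A := Ring.KrullDimLE.mk₀ fun p hp => by
    obtain ⟨M, hM, hMp⟩ := isJacobsonRing_iff_sInf_maximal.1 ‹_› hp
    have hfin : {J : Ideal A | J.IsMaximal}.Finite :=
      (Set.finite_range (fun m : MaximalSpectrum A => m.asIdeal)).subset fun J hJ => ⟨⟨J, hJ⟩, rfl⟩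
    have hMfin : {J ∈ M | J.IsMaximal}.Finite := hfin.subset fun J hJ => hJ.2
    by_contra hp'
    have hle : hMfin.toFinset.inf id ≤ p := fun x hx => by
      rw [hMp, Ideal.mem_sInf]
      intro J hJ
      rcases hM J hJ with hJ' | hJ'
      · exact (Finset.inf_le (f := id) (hMfin.mem_toFinset.2 ⟨hJ, hJ'⟩) : _ ≤ J) hx
      · exact hJ' ▸ Submodule.mem_top
    obtain ⟨J, hJ, hJp⟩ := (Ideal.IsPrime.inf_le' hp).1 hle
    have hJm : J.IsMaximal := (hMfin.mem_toFinset.1 hJ).2
    exact hp' (hJm.eq_of_le hp.ne_top hJp ▸ hJm)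
  have : IsArtinianRing A := isArtinianRing_iff_krullDimLE_zero.2 this
  have : Module.Finite K A := (Module.finite_iff_isArtinianRing K A).2 this
  rw [← Over.w eD.inv]
  refine MorphismProperty.comp_mem @IsFinite _ _ inferInstance ?_
  exact (IsFinite.SpecMap_iff (f := CommRingCat.ofHom (algebraMap K A))).2 (RingHom.finite_algebraMap.2 ‹_›)

end Groth.Agent.Sha32
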