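import Groth.Agent.RedPts82.HomFinFlat
import Groth.Agent.RedPts82.Points
import Groth.Agent.Const38.HomSheaf
import Groth.Prelude.Def_CGrpSh2
import Mathlib.CategoryTheory.Monoidal.Cartesian.Grp

/-!
The dual sheaf of a group is the sheaf of points of a scheme of characters.
-/

set_option autoImplicit false
set_option linter.style.haveILetI false
universe u

open CategoryTheory CategoryTheory.Limits AlgebraicGeometry Opposite MonoidalCategory CartesianMonoidalCategory MonObj

noncomputable section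

namespace Groth.Agent.Sha32

section GrpOf

variable {S : Scheme.{u}} (H G : Over S) [GrpObj H] [GrpObj G]
  (hcomm : ∀ (X : Over S) (a b : X ⟶ G), a * b = b * a)

/-- Families of homomorphisms to a commutative group form a group. -/
noncomputable def charGrp (T : Over S) : Subgroup (H ⊗ T ⟶ G) where
  carrier := {φ | AutFam.IsHomFamily H G φ}
  one_mem' := fun X g₁ g₂ t => by
    simp only [MonObj.comp_one, _root_.mul_one]
  mul_mem' := fun {φ ψ} hφ hψ X g₁ g₂ t => by
    simp only [MonObj.comp_mul]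
    rw [hφ, hψ, _root_.mul_assoc, _root_.mul_assoc, ← _root_.mul_assoc (lift g₂ t ≫ φ),
      hcomm X (lift g₂ t ≫ φ) (lift g₁ t ≫ ψ), _root_.mul_assoc]
  inv_mem' := fun {φ} hφ X g₁ g₂ t => by
    simp only [GrpObj.comp_inv]
    rw [hφ, mul_inv_rev, hcomm]

/-- The presheaf of groups of families of homomorphisms. -/
noncomputable def charFunctor : (Over S)ᵒᵖ ⥤ GrpCat.{u} where
  obj T := GrpCat.of (charGrp H G hcomm T.unop)
  map {T T'} f := GrpCat.ofHom
    { toFun := fun φ => ⟨(H ◁ f.unop) ≫ φ.1, Const38.isHomFamily_precomp H G f.unop φ.2⟩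
      map_one' := Subtype.ext (MonObj.comp_one _)
      map_mul' := fun φ ψ => Subtype.ext (MonObj.comp_mul _ _ _) }
  map_id T := by
    apply ConcreteCategory.hom_ext
    intro φ
    refine Subtype.ext ?_
    show (H ◁ 𝟙 _) ≫ φ.1 = φ.1
    rw [MonoidalCategory.whiskerLeft_id, Category.id_comp]
  map_comp f f' := by
    apply ConcreteCategory.hom_ext
    intro φ
    refine Subtype.ext ?_
    show (H ◁ (f'.unop ≫ f.unop)) ≫ φ.1 = (H ◁ f'.unop) ≫ (H ◁ f.unop) ≫ φ.1
    rw [MonoidalCategory.whiskerLeft_comp, Category.assoc]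

include hcomm in
/-- A representing object for homomorphisms to a commutative group is a group for the pointwise product. -/
theorem exists_grpObj {D : Over S} {υ : H ⊗ D ⟶ G} (hD : AutFam.RepresentsHom H G D υ) :
    ∃ (_ : GrpObj D), ∀ (X : Over S) (h : X ⟶ H) (a b : X ⟶ D),
      lift h (a * b) ≫ υ = (lift h a ≫ υ) * (lift h b ≫ υ) := by
  let α : (charFunctor H G hcomm ⋙ forget _).RepresentableBy D :=
    { homEquiv := fun {X} => Equiv.ofBijective
        (fun a => (⟨(H ◁ a) ≫ υ, Const38.isHomFamily_precomp H G a hD.1⟩ : charGrp H G hcomm X))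
        ⟨fun a b hab => (hD.2 X _ (Const38.isHomFamily_precomp H G b hD.1)).unique (congrArg Subtype.val hab) rfl,
          fun φ => (hD.2 X φ.1 φ.2).exists.imp fun a ha => Subtype.ext ha⟩
      homEquiv_comp := fun {X X'} f a => Subtype.ext (by
        show (H ◁ (f ≫ a)) ≫ υ = (H ◁ f) ≫ (H ◁ a) ≫ υ
        rw [MonoidalCategory.whiskerLeft_comp, Category.assoc]) }
  let i : GrpObj D := GrpObj.ofRepresentableBy D (charFunctor H G hcomm) α
  refine ⟨i, fun X h a b => ?_⟩
  have e : (H ◁ (a * b)) ≫ υ = ((H ◁ a) ≫ υ) * ((H ◁ b) ≫ υ) :=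
    congrArg Subtype.val (map_mul ((yonedaGrpObjIsoOfRepresentableBy D (charFunctor H G hcomm) α).hom.app (op X)).hom a b)
  have e' := congrArg (lift h (𝟙 X) ≫ ·) e
  simpa only [MonObj.comp_mul, lift_whiskerLeft_assoc, Category.id_comp] using e'

end GrpOf

set_option backward.isDefEq.respectTransparency.types false in
theorem isAffineHom_gm (S : Scheme.{u}) : IsAffineHom (Red.Gm S).hom :=
  have : MorphismProperty.IsStableUnderBaseChange (@IsAffineHom : MorphismProperty Scheme.{u}) := isAffineHom_isStableUnderBaseChange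
  MorphismProperty.pullback_snd (P := (@IsAffineHom : MorphismProperty Scheme.{u})) _ _
    (inferInstanceAs (IsAffineHom (Spec.map _)))

theorem lft_gm (S : Scheme.{u}) : LocallyOfFiniteType (Red.Gm S).hom := by
  refine MorphismProperty.pullback_snd (P := (@LocallyOfFiniteType : MorphismProperty Scheme.{u})) _ _ ?_
  refine (HasRingHomProperty.Spec_iff (P := @LocallyOfFiniteType)).mpr ?_
  exact RingHom.finiteType_algebraMap.mpr inferInstance

variable {S : Scheme.{u}} (G : Over S) [GrpObj G] [IsCommMonObj G]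

/-- Sections of the dual. -/
abbrev DualG : BigSite.Ab Scheme.fppfPrecoverage S :=
  CGrpSh2.dualSh Scheme.fppfPrecoverage (CGrpSh.pts Scheme.fppfPrecoverage G)

variable {G} {U : Over S}

/-- The value of a character on a point. -/
def chrVal (φ : (CGrpSh.pts Scheme.fppfPrecoverage G).over U ⟶ (CGrpSh2.Gm Scheme.fppfPrecoverage S).over U)
    {V : Over S} (g : V ⟶ U) (x : V ⟶ G) : V ⟶ Red.Gm S :=
  Additive.toMul (φ.hom.app (op (Over.mk g)) (ULift.up (Additive.ofMul x))).down

theorem chrVal_mul (φ : (CGrpSh.pts Scheme.fppfPrecoverage G).over U ⟶ (CGrpSh2.Gm Scheme.fppfPrecoverage S).over U)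
    {V : Over S} (g : V ⟶ U) (x y : V ⟶ G) : chrVal φ g (x * y) = chrVal φ g x * chrVal φ g y :=
  congrArg (fun z => Additive.toMul (ULift.down z))
    (map_add (φ.hom.app (op (Over.mk g))).hom (ULift.up (Additive.ofMul x)) (ULift.up (Additive.ofMul y)))

theorem chrVal_nat (φ : (CGrpSh.pts Scheme.fppfPrecoverage G).over U ⟶ (CGrpSh2.Gm Scheme.fppfPrecoverage S).over U)
    {V W : Over S} (h : W ⟶ V) (g : V ⟶ U) (x : V ⟶ G) : chrVal φ (h ≫ g) (h ≫ x) = h ≫ chrVal φ g x :=
  congrArg (fun z => Additive.toMul (ULift.down z))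
    (ConcreteCategory.congr_hom (φ.hom.naturality (Over.homMk h (by simp) : Over.mk (h ≫ g) ⟶ Over.mk g).op)
      (ULift.up (Additive.ofMul x)))

/-- A character from a family of homomorphisms. -/
def chrOf (φ₀ : G ⊗ U ⟶ Red.Gm S) (h : AutFam.IsHomFamily G (Red.Gm S) φ₀) :
    (CGrpSh.pts Scheme.fppfPrecoverage G).over U ⟶ (CGrpSh2.Gm Scheme.fppfPrecoverage S).over U :=
  ⟨{ app := fun V => AddCommGrpCat.ofHom (AddMonoidHom.mk'
      (fun z => ULift.up (Additive.ofMul (lift (Additive.toMul z.down) (unop V).hom ≫ φ₀)))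
      fun z z' => ULift.ext _ _ (congrArg Additive.ofMul (h _ _ _ _)))
     naturality := fun V V' k => AddCommGrpCat.ext fun z => ULift.ext _ _ (congrArg Additive.ofMul (by
       show lift (k.unop.left ≫ Additive.toMul z.down) (unop V').hom ≫ φ₀ =
         k.unop.left ≫ lift (Additive.toMul z.down) (unop V).hom ≫ φ₀
       rw [← Over.w k.unop, ← comp_lift, Category.assoc])) }⟩

theorem chrVal_chrOf (φ₀ : G ⊗ U ⟶ Red.Gm S) (h : AutFam.IsHomFamily G (Red.Gm S) φ₀) {V : Over S} (g : V ⟶ U)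
    (x : V ⟶ G) : chrVal (chrOf φ₀ h) g x = lift x g ≫ φ₀ := rfl

theorem chr_ext {φ ψ : (CGrpSh.pts Scheme.fppfPrecoverage G).over U ⟶ (CGrpSh2.Gm Scheme.fppfPrecoverage S).over U}
    (h : chrVal φ (snd G U) (fst G U) = chrVal ψ (snd G U) (fst G U)) : φ = ψ := by
  refine Sheaf.hom_ext (NatTrans.ext (funext fun V => AddCommGrpCat.ext fun z => ?_))
  have key : ∀ (χ : (CGrpSh.pts Scheme.fppfPrecoverage G).over U ⟶ (CGrpSh2.Gm Scheme.fppfPrecoverage S).over U)
      {W : Over S} (g : W ⟶ U) (x : W ⟶ G), chrVal χ g x = lift x g ≫ chrVal χ (snd G U) (fst G U) :=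
    fun χ {W} g x => by rw [← chrVal_nat, lift_fst, lift_snd]
  exact ULift.ext _ _ (congrArg Additive.ofMul
    ((key φ (unop V).hom (Additive.toMul z.down)).trans ((congrArg (_ ≫ ·) h).trans (key ψ _ _).symm)))

variable (G) in
/-- The dual sheaf is the sheaf of points of a scheme of characters. -/
theorem exists_dual_iso [IsFinite G.hom] [Flat G.hom] [LocallyOfFinitePresentation G.hom] :
    ∃ (D : Over S) (υ : G ⊗ D ⟶ Red.Gm S) (_ : GrpObj D) (_ : IsCommMonObj D),
      AutFam.RepresentsHom G (Red.Gm S) D υ ∧ IsAffineHom D.hom ∧ LocallyOfFiniteType D.hom ∧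
      Nonempty (DualG G ≅ CGrpSh.pts Scheme.fppfPrecoverage D) := by
  have := isAffineHom_gm S
  have := lft_gm S
  obtain ⟨D, υ, hD, haff, hlft, -⟩ := RedPts82.HomFF.exists_homGrpScheme G (Red.Gm S)
  obtain ⟨iD, hmul⟩ := exists_grpObj G (Red.Gm S) (fun _ a b => RedPts82.gm_comm a b) hD
  have hext : ∀ {T : Over S} (a b : T ⟶ D), (G ◁ a) ≫ υ = (G ◁ b) ≫ υ → a = b := fun {T} a b e =>
    (hD.2 T _ (Const38.isHomFamily_precomp G (Red.Gm S) b hD.1)).unique e rfl
  have hwl : ∀ {T : Over S} (a : T ⟶ D), (G ◁ a) ≫ υ = lift (fst G T) (snd G T ≫ a) ≫ υ := fun a => by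
    rw [← lift_whiskerLeft, lift_fst_snd, Category.id_comp]
  have hcomm : IsCommMonObj D := ⟨by
    have h1 : (β_ D D).hom ≫ (fst D D * snd D D) = fst D D * snd D D := by
      refine hext _ _ ?_
      rw [hwl, hwl, MonObj.comp_mul, MonObj.comp_mul, MonObj.comp_mul, hmul, hmul, RedPts82.gm_comm]
      simp
    rw [← MonObj.mul_eq_mul D] at h1
    exact h1⟩
  refine ⟨D, υ, iD, hcomm, hD, haff, hlft inferInstance, ⟨?_⟩⟩
  let τ : (CGrpSh.pts Scheme.fppfPrecoverage D).obj ⟶ (DualG G).obj :=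
    { app := fun T => AddCommGrpCat.ofHom (AddMonoidHom.mk'
        (fun z => chrOf ((G ◁ Additive.toMul z.down) ≫ υ) (Const38.isHomFamily_precomp G (Red.Gm S) _ hD.1))
        fun z z' => chr_ext (by
          refine Eq.trans ?_ (b := chrVal (chrOf _ (Const38.isHomFamily_precomp G (Red.Gm S) (Additive.toMul z.down) hD.1))
            (snd G _) (fst G _) * chrVal (chrOf _ (Const38.isHomFamily_precomp G (Red.Gm S) (Additive.toMul z'.down) hD.1))
            (snd G _) (fst G _)) rfl
          rw [chrVal_chrOf, chrVal_chrOf, chrVal_chrOf, lift_fst_snd, Category.id_comp, Category.id_comp,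
            Category.id_comp]
          show (G ◁ (Additive.toMul z.down * Additive.toMul z'.down)) ≫ υ = _
          rw [hwl, hwl, hwl, MonObj.comp_mul, hmul]))
      naturality := fun T T' k => AddCommGrpCat.ext fun z => chr_ext (by
        show chrVal (chrOf ((G ◁ (k.unop ≫ Additive.toMul z.down)) ≫ υ)
            (Const38.isHomFamily_precomp G (Red.Gm S) _ hD.1)) _ _ =
          chrVal (chrOf ((G ◁ Additive.toMul z.down) ≫ υ) (Const38.isHomFamily_precomp G (Red.Gm S) _ hD.1))
            (snd G _ ≫ k.unop) (fst G _)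
        rw [chrVal_chrOf, chrVal_chrOf, lift_whiskerLeft_assoc, lift_whiskerLeft_assoc, Category.assoc]) }
  have hτ : ∀ T, IsIso (τ.app T) := fun T => (ConcreteCategory.isIso_iff_bijective _).2
    ⟨fun z z' e => ULift.ext _ _ (congrArg Additive.ofMul (hext (Additive.toMul z.down) (Additive.toMul z'.down) (by
      have h1 := congrArg (fun χ => chrVal χ (snd G T.unop) (fst G T.unop)) e
      change chrVal (chrOf ((G ◁ Additive.toMul z.down) ≫ υ) (Const38.isHomFamily_precomp G (Red.Gm S) _ hD.1)) _ _ =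
        chrVal (chrOf ((G ◁ Additive.toMul z'.down) ≫ υ) (Const38.isHomFamily_precomp G (Red.Gm S) _ hD.1)) _ _ at h1
      rw [chrVal_chrOf, chrVal_chrOf, lift_fst_snd, Category.id_comp, Category.id_comp] at h1
      exact h1))), fun φ => by
      let φ₀ : G ⊗ T.unop ⟶ Red.Gm S := chrVal φ (snd G T.unop) (fst G T.unop)
      have hφ₀ : AutFam.IsHomFamily G (Red.Gm S) φ₀ := fun X g₁ g₂ t => by
        simp only [φ₀, ← chrVal_nat, lift_fst, lift_snd]
        exact chrVal_mul φ t g₁ g₂
      obtain ⟨a, ha, -⟩ := hD.2 T.unop φ₀ hφ₀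
      refine ⟨ULift.up (Additive.ofMul a), chr_ext ?_⟩
      show lift (fst G T.unop) (snd G T.unop) ≫ (G ◁ a) ≫ υ = φ₀
      rw [lift_fst_snd, Category.id_comp, ha]⟩
  have : IsIso τ := NatIso.isIso_of_isIso_app _
  let f : CGrpSh.pts Scheme.fppfPrecoverage D ⟶ DualG G := ⟨τ⟩
  have : IsIso ((sheafToPresheaf _ _).map f) := inferInstanceAs (IsIso τ)
  have := isIso_of_fully_faithful (sheafToPresheaf _ _) f
  exact (asIso f).symm

end Groth.Agent.Sha32
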