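import Groth.Agent.FF30.Ext
import Groth.Prelude.Def_AdFn

/-!
The map of completions at a place over a place.
-/

set_option autoImplicit false
universe u

open FunFld WithZero
open Groth.Agent.FF30

noncomputable section

namespace Groth.Agent.Sha32

variable {k K M : Type u} [Field k] [Field K] [Algebra k K] [Field M] [Algebra K M] [Algebra k M]

/-- The completion of an extension at a place over a place receives the completion. -/
theorem exists_complMap {w : Place k M} {v : Place k K} {e : ℕ} (h : IsOverWith w v e) :
    Nonempty (AdFn.Kv v →ₐ[K] AdFn.Kv w) := by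
  let f : WithVal v.1 →+* AdFn.Kv w :=
    ((algebraMap M (AdFn.Kv w)).comp (algebraMap K M)).comp (WithVal.equiv v.1).toRingHom
  have hf : Continuous f := by
    refine continuous_of_continuousAt_zero f.toAddMonoidHom ?_
    show Filter.Tendsto f (nhds 0) (nhds (f 0))
    rw [map_zero, Filter.tendsto_def]
    intro s hs
    obtain ⟨γ, hγ⟩ := Valued.mem_nhds_zero.1 hs
    set g := MonoidWithZeroHom.ValueGroup₀.embedding (γ.1) with hg
    have hg0 : g ≠ 0 := by simp [hg]
    obtain ⟨t, ht⟩ := v.2.2 (min g 1)
    have ht0 : v.1 t ≠ 0 := by rw [ht]; exact (lt_min (zero_lt_iff.2 hg0) zero_lt_one).ne'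
    let tv : WithVal v.1 := (WithVal.equiv v.1).symm t
    have hv : ∀ y : WithVal v.1, Valued.v y = v.1 (WithVal.equiv v.1 y) := fun y => rfl
    have htv : (Valued.v : Valuation (WithVal v.1) _).restrict tv ≠ 0 := by
      simp only [ne_eq, Valuation.restrict_eq_zero_iff]
      rw [hv]
      simpa [tv] using ht0
    refine Valued.mem_nhds_zero.2 ⟨Units.mk0 _ htv, fun y hy => hγ ?_⟩
    have hy' : v.1 (WithVal.equiv v.1 y) < min g 1 := by
      have h1 := (Valuation.restrict_lt_iff _).1 hy
      rw [hv, hv] at h1
      simpa [tv, ht] using h1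
    show (Valued.v : Valuation (AdFn.Kv w) _).restrict (f y) < γ.1
    rw [Valuation.restrict_lt_iff_lt_embedding, ← hg]
    show Valued.v (AdFn.toKv w (algebraMap K M (WithVal.equiv v.1 y))) < g
    rw [AdFn.valued_toKv, h]
    exact lt_of_le_of_lt (pow_le_of_le_one zero_le (hy'.le.trans (min_le_right _ _)) (isOverWith_pos h).ne')
      (hy'.trans_le (min_le_left _ _))
  exact ⟨{ toRingHom := UniformSpace.Completion.extensionHom f hf
           commutes' := fun c => (UniformSpace.Completion.extensionHom_coe f hf _).trans rfl }⟩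

end Groth.Agent.Sha32
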