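import Groth.Agent.Sha32.Core
import Groth.Agent.Sha32.ComplMap
import Mathlib.RingTheory.Unramified.Field
import Mathlib.RingTheory.Artinian.Module
import Mathlib.RingTheory.Unramified.Pi

/-!
Finiteness of the group of everywhere locally trivial classes of a finite group.
-/

set_option autoImplicit false
set_option backward.isDefEq.respectTransparency false
universe u

open CategoryTheory CategoryTheory.Limits AlgebraicGeometry Opposite TensorProduct
open MonoidalCategory CartesianMonoidalCategory MonObj
open Groth.Agent.DualTor32 (spO topO spOMap pr₁ pr₂ pair_lift)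
open Groth.Agent.Tors32

noncomputable section

namespace Groth.Agent.Sha32

variable {K : Type u} [Field K]

section Zero

variable {S : ShortComplex (BigSite.Ab Scheme.fppfPrecoverage (Spec (CommRingCat.of K)))} (hS : S.ShortExact)
  (q : S.X₃.obj.obj (op (topO K)))

/-- Vanishing after an extension means lifting. -/
theorem pull_eq_zero_iff (E : Type u) [CommRing E] [Algebra K E] :
    HRes.pull Scheme.fppfPrecoverage (spHom (A := K) E) S.X₁ 1 (delta hS q) = 0 ↔
      ∃ t, S.g.hom.app (op (spO (A := K) E)) t =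
        S.X₃.obj.map (Over.mkIdTerminal.from (spO (A := K) E)).op q := by
  rw [pull_delta, delta_eq_zero_iff]
  constructor
  · rintro ⟨t, ht⟩
    refine ⟨S.X₂.obj.map (topSpIso (A := K) E).hom.op t, ?_⟩
    refine (NatTrans.naturality_apply S.g.hom (topSpIso (A := K) E).hom.op t).trans ?_
    refine (congrArg (fun z => S.X₃.obj.map (topSpIso (A := K) E).hom.op z) ht).trans ?_
    refine (map_map_apply S.X₃ _ _ q).trans ?_
    exact congrArg (fun k => S.X₃.obj.map (Quiver.Hom.op k) q) (Over.mkIdTerminal.hom_ext _ _)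
  · rintro ⟨t, ht⟩
    refine ⟨S.X₂.obj.map (topSpIso (A := K) E).inv.op t, ?_⟩
    refine (NatTrans.naturality_apply S.g.hom (topSpIso (A := K) E).inv.op t).trans ?_
    refine (congrArg (fun z => S.X₃.obj.map (topSpIso (A := K) E).inv.op z) ht).trans ?_
    refine (map_map_apply S.X₃ _ _ q).trans ?_
    exact congrArg (fun k => S.X₃.obj.map (Quiver.Hom.op k) q) (Over.mkIdTerminal.hom_ext _ _)

/-- Vanishing in two steps. -/
theorem pull_pull_eq_zero (M : Type u) [CommRing M] [Algebra K M] (E : Type u) [CommRing E] [Algebra K E] [Algebra M E]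
    [IsScalarTower K M E] (E₀ : Type u) [CommRing E₀] [Algebra K E₀] (φ : E₀ →ₐ[K] E)
    (h : HRes.pull Scheme.fppfPrecoverage (spHom (A := K) E₀) S.X₁ 1 (delta hS q) = 0) :
    HRes.pull Scheme.fppfPrecoverage (spHom (A := M) E) _ 1
      (HRes.pull Scheme.fppfPrecoverage (spHom (A := K) M) S.X₁ 1 (delta hS q)) = 0 := by
  obtain ⟨t, ht⟩ := (pull_eq_zero_iff hS q E₀).1 h
  refine (congrArg (fun z => HRes.pull Scheme.fppfPrecoverage (spHom (A := M) E) _ 1 z)
    (pull_delta (spHom (A := K) M) hS q)).trans ?_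
  refine (pull_delta (spHom (A := M) E) (shortExact_pull (spHom (A := K) M) hS) _).trans ?_
  refine (delta_eq_zero_iff _ _).2 ?_
  let i : (Over.map (spHom (A := K) M)).obj ((Over.map (spHom (A := M) E)).obj (topO E)) ⟶ spO (A := K) E₀ :=
    (Over.map (spHom (A := K) M)).map (topSpIso (A := M) E).inv ≫ (downO (A := K) M E).inv ≫ spOMap E₀ φ
  refine ⟨S.X₂.obj.map i.op t, ?_⟩
  refine (NatTrans.naturality_apply S.g.hom i.op t).trans ?_
  refine (congrArg (fun z => S.X₃.obj.map i.op z) ht).trans ?_
  refine (map_map_apply S.X₃ _ _ q).trans ?_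
  refine Eq.trans ?_ (map_map_apply S.X₃ ((Over.map (spHom (A := K) M)).map (Over.mkIdTerminal.from _)) _ q).symm
  exact congrArg (fun k => S.X₃.obj.map (Quiver.Hom.op k) q) (Over.mkIdTerminal.hom_ext _ _)

end Zero

/-- A finite separable extension has reduced square. -/
theorem isReduced_square (K' : Type u) [Field K'] [Algebra K K'] [FiniteDimensional K K'] [Algebra.IsSeparable K K'] :
    IsReduced (K' ⊗[K] K') :=
  have : Algebra.FormallyUnramified K K' := Algebra.FormallyUnramified.of_isSeparable K K'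
  Algebra.FormallyUnramified.isReduced_of_field K' (K' ⊗[K] K')

theorem finite_algHom_of_isReduced (H R : Type u) [CommRing H] [Algebra K H] [Module.Finite K H] [CommRing R]
    [Algebra K R] [Module.Finite K R] [IsReduced R] : Finite (H →ₐ[K] R) := by
  have : IsArtinianRing R := IsArtinianRing.of_finite K R
  have : ∀ m : MaximalSpectrum R, Finite (H →ₐ[K] R ⧸ m.asIdeal) := fun m =>
    let _ := Ideal.Quotient.field m.asIdeal
    inferInstance
  refine Finite.of_injective
    (fun φ (m : MaximalSpectrum R) => (Ideal.Quotient.mkₐ K m.asIdeal).comp φ) fun φ ψ h => AlgHom.ext fun a => ?_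
  refine (IsArtinianRing.equivPi R).injective (funext fun m => ?_)
  rw [IsArtinianRing.equivPi_apply, IsArtinianRing.equivPi_apply]
  exact AlgHom.congr_fun (congrFun h m) a

theorem finite_points (G : Over (Spec (CommRingCat.of K))) [GrpObj G] [IsCommMonObj G] [IsFinite G.hom] (R : Type u)
    [CommRing R] [Algebra K R] [Module.Finite K R] [IsReduced R] :
    Finite ((CGrpSh.pts Scheme.fppfPrecoverage G).obj.obj (op (spO (A := K) R))) := by
  have : IsAffine G.left := isAffine_of_isAffineHom G.hom
  obtain ⟨H, _, _, ⟨eG⟩⟩ := exists_spO_iso G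
  have : Module.Finite K H := finite_of_isFinite (by
    rw [← Over.w eG.hom]; exact MorphismProperty.comp_mem @IsFinite _ _ inferInstance ‹_›)
  have := finite_algHom_of_isReduced (K := K) H R
  have : Finite (spO (A := K) R ⟶ G) :=
    Finite.of_surjective (fun φ : H →ₐ[K] R => spOMap H φ ≫ eG.hom) fun g => by
      obtain ⟨φ, hφ⟩ := exists_algHom (g ≫ eG.inv)
      exact ⟨φ, by simp only; rw [hφ, Category.assoc, Iso.inv_hom_id, Category.comp_id]⟩
  exact Finite.of_injective (fun x => Additive.toMul x.down) fun x y h => ULift.ext _ _ h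

variable {k : Type u} [Field k] [Finite k] [Algebra (RatFunc k) K]
  [FiniteDimensional (RatFunc k) K] [Algebra k K] [IsScalarTower k (RatFunc k) K]

/-- Finiteness of the group of everywhere locally trivial classes. -/
theorem finite_shaLoc (G : Over (Spec (CommRingCat.of K))) [GrpObj G] [IsCommMonObj G] [IsFinite G.hom]
    (F : BigSite.Ab Scheme.fppfPrecoverage (Spec (CommRingCat.of K)))
    (e : F ≅ CGrpSh.pts Scheme.fppfPrecoverage G) :
    Finite (AdFn.ShaLoc Scheme.fppfPrecoverage k F 1) := by
  classical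
  have : IsAffine G.left := isAffine_of_isAffineHom G.hom
  obtain ⟨H, _, _, ⟨eG⟩⟩ := exists_spO_iso G
  have : Module.Finite K H := finite_of_isFinite (by
    rw [← Over.w eG.hom]; exact MorphismProperty.comp_mem @IsFinite _ _ inferInstance ‹_›)
  obtain ⟨K', _, _, hfin, hsep, hfix⟩ := exists_fix_field (K := K) H
  let _ : Algebra k K' := ((algebraMap K K').comp (algebraMap k K)).toAlgebra
  let _ : Algebra (RatFunc k) K' := ((algebraMap K K').comp (algebraMap (RatFunc k) K)).toAlgebra
  have : IsScalarTower (RatFunc k) K K' := IsScalarTower.of_algebraMap_eq fun _ => rfl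
  have : IsScalarTower k K K' := IsScalarTower.of_algebraMap_eq fun _ => rfl
  have : IsScalarTower k (RatFunc k) K' := IsScalarTower.of_algebraMap_eq fun c => by
    show algebraMap K K' (algebraMap k K c) = _
    rw [IsScalarTower.algebraMap_apply k (RatFunc k) K]
    rfl
  have : FiniteDimensional (RatFunc k) K' := Module.Finite.trans K K'
  have hFF : FF30.FF k K := ff_of_ratFunc
  obtain ⟨I, Qs, inc, prj, w, hI, hS⟩ := exists_injective_ses F
  have w' : (e.inv ≫ inc) ≫ prj = 0 := by rw [Category.assoc, w, comp_zero]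
  have hSG : (ShortComplex.mk (e.inv ≫ inc) prj w').ShortExact :=
    ShortComplex.shortExact_of_iso (ShortComplex.isoMk (S₁ := ShortComplex.mk inc prj w) e (Iso.refl _) (Iso.refl _)
      (by show e.hom ≫ e.inv ≫ inc = inc ≫ 𝟙 _; rw [Iso.hom_inv_id_assoc, Category.comp_id])
      (by show 𝟙 _ ≫ prj = prj ≫ 𝟙 _; rw [Category.id_comp, Category.comp_id])) hS
  have key : ∀ x : AdFn.ShaLoc Scheme.fppfPrecoverage k F 1, ∃ (q : Qs.obj.obj (op (topO K)))
      (t : I.obj.obj (op (spO (A := K) K'))), delta hS q = (x : BigSite.H _ _ F 1) ∧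
      prj.hom.app (op (spO (A := K) K')) t = Qs.obj.map (Over.mkIdTerminal.from _).op q := fun x => by
    obtain ⟨q, hq⟩ := delta_surjective (S := ShortComplex.mk inc prj w) hS x.1
    have hloc : ∀ v : FunFld.Place k K, HRes.pull Scheme.fppfPrecoverage (spHom (A := K) (AdFn.Kv v))
        (CGrpSh.pts Scheme.fppfPrecoverage G) 1 (delta hSG q) = 0 := fun v => by
      have h1 : HRes.pull Scheme.fppfPrecoverage (spHom (A := K) (AdFn.Kv v)) F 1 (delta hS q) = 0 := by
        rw [hq]
        exact AddMonoidHom.mem_ker.1 (AddSubgroup.mem_iInf.1 x.2 v)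
      exact (pull_eq_zero_iff hSG q _).2 ((pull_eq_zero_iff hS q _).1 h1)
    have hzero : HRes.pull Scheme.fppfPrecoverage (spHom (A := K) K') (CGrpSh.pts Scheme.fppfPrecoverage G) 1
        (delta hSG q) = 0 := by
      refine eq_zero_of_local (k := k) G (fun Ω _ _ _ σ g => ?_) _ fun v => ?_
      · let _ : Algebra K Ω := ((algebraMap K' Ω).comp (algebraMap K K')).toAlgebra
        have : IsScalarTower K K' Ω := IsScalarTower.of_algebraMap_eq fun _ => rfl
        exact spOMap_comp_eq G eG σ (fun φ h => hfix Ω σ φ h) g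
      · obtain ⟨P, n, -, hP⟩ := hFF.exists_isOverWith (K' := K') v
        obtain ⟨φ⟩ := exists_complMap hP
        exact pull_pull_eq_zero hSG q K' (AdFn.Kv v) (AdFn.Kv P) φ (hloc P)
    obtain ⟨t, ht⟩ := (pull_eq_zero_iff hSG q K').1 hzero
    exact ⟨q, t, hq, ht⟩
  choose q t hq ht using key
  let W := spO (A := K) K'
  let P := spO (A := K) (K' ⊗[K] K')
  have hd : ∀ x, ∃ d : (CGrpSh.pts Scheme.fppfPrecoverage G).obj.obj (op P),
      (e.inv ≫ inc).hom.app (op P) d = I.obj.map (pr₂ K K').op (t x) - I.obj.map (pr₁ K K').op (t x) := fun x =>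
    exists_app_f_eq hSG (by
      rw [map_sub, NatTrans.naturality_apply, NatTrans.naturality_apply]
      erw [ht x]
      rw [map_map_apply, map_map_apply, Over.mkIdTerminal.hom_ext (pr₂ K K' ≫ _) (pr₁ K K' ≫ Over.mkIdTerminal.from W)]
      exact sub_self _)
  choose d hd using hd
  have := isReduced_square (K := K) K'
  have := finite_points G (K' ⊗[K] K')
  have : IsIso (Spec.map (CommRingCat.ofHom (algebraMap K K))) := by
    rw [show CommRingCat.ofHom (algebraMap K K) = 𝟙 _ from rfl, Spec.map_id]
    infer_instance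
  refine Finite.of_injective d fun x y hxy => Subtype.ext ?_
  rw [← hq x, ← hq y, ← sub_eq_zero, ← delta_sub]
  obtain ⟨t₀, ht₀⟩ := exists_descend I (Over.mkIdTerminal.from W) (singleton_cover (A := K) K') (t x - t y)
    fun Z a b _ => by
      obtain ⟨h, h₁, h₂⟩ := pair_lift K K' Z a b
      have h3 := congrArg (I.obj.map h.op) ((hd x).symm.trans ((congrArg _ hxy).trans (hd y)))
      rw [map_sub, map_sub, map_map_apply, map_map_apply, map_map_apply, map_map_apply, h₁, h₂,
        sub_eq_sub_iff_sub_eq_sub] at h3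
      rw [map_sub, map_sub]
      exact h3.symm
  refine (delta_eq_zero_iff hS _).2 ⟨t₀, ext_of_cover Qs _ (singleton_cover (A := K) K') ?_⟩
  rw [← NatTrans.naturality_apply, ht₀, map_sub, map_sub, ht x, ht y]

end Groth.Agent.Sha32
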