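import Groth.Agent.FF30.RH
import Groth.Agent.FF30.Ext
import Groth.Agent.S6333

/-!
An extension of a function field over a finite field in which every place splits completely is
trivial.
-/

set_option autoImplicit false
universe u

open FunFld IntermediateField
open Groth.Agent.FF30

noncomputable section

namespace Groth.Agent.Sha32

variable {k K : Type u} [Field k] [Field K] [Algebra k K]

theorem finite_consts (h : FF k K) : FiniteDimensional k (algebraicClosure k K) := by
  obtain ⟨x, -, hfin⟩ := h
  refine S6333.result (IntermediateField.fg_top_iff.2 ?_)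
  have : Algebra.EssFiniteType k k⟮x⟯ := IntermediateField.essFiniteType_iff.2 (IntermediateField.fg_adjoin_finset {x} |> fun h => by simpa using h)
  exact Algebra.EssFiniteType.comp k k⟮x⟯ K

theorem isFunctionField_consts (h : FF k K) : IsFunctionField (algebraicClosure k K) K := by
  obtain ⟨x, hx, hfin⟩ := h
  let C := algebraicClosure k K
  have : Algebra.IsAlgebraic k C := algebraicClosure.isAlgebraic k K
  refine ⟨⟨x, fun ha => hx (ha.restrictScalars k), ?_⟩, fun y hy => ⟨⟨y, ?_⟩, rfl⟩⟩
  · have : FiniteDimensional k⟮x⟯ K := hfin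
    have hle : k⟮x⟯ ≤ (IntermediateField.adjoin C ({x} : Set K)).restrictScalars k :=
      adjoin_simple_le_iff.2 (mem_adjoin_simple_self C x)
    let _ : Algebra k⟮x⟯ (IntermediateField.adjoin C ({x} : Set K)) :=
      (IntermediateField.inclusion hle).toRingHom.toAlgebra
    have : IsScalarTower k⟮x⟯ (IntermediateField.adjoin C ({x} : Set K)) K := .of_algebraMap_eq fun _ => rfl
    exact Module.Finite.of_restrictScalars_finite k⟮x⟯ _ K
  · exact (mem_algebraicClosure_iff' (F := k)).2 (isAlgebraic_iff_isIntegral.1 (hy.restrictScalars k))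

section Transfer

variable (C : Type u) [Field C] [Algebra k C] [Algebra C K] [IsScalarTower k C K]

/-- A place over the constants as a place over the ground field. -/
def placeDown (Q : Place C K) : Place k K := ⟨Q.1, fun c => by rw [IsScalarTower.algebraMap_apply k C K]; exact Q.2.1 (algebraMap k C c), Q.2.2⟩

theorem placeDown_bijective [Algebra.IsAlgebraic k C] : Function.Bijective (placeDown (k := k) (K := K) C) :=
  ⟨fun Q Q' h => Subtype.ext (congrArg (fun P : Place k K => P.1) h), fun P =>
    ⟨⟨P.1, fun c => val_le_one_of_isIntegral P ((Algebra.IsIntegral.isIntegral c).map (IsScalarTower.toAlgHom k C K)), P.2.2⟩, rfl⟩⟩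

theorem deg_placeDown (Q : Place C K) : (placeDown (k := k) C Q).deg = Module.finrank k C * Q.deg := by
  let _ : Algebra k (IsLocalRing.ResidueField Q.O) :=
    inferInstanceAs (Algebra k (IsLocalRing.ResidueField (placeDown (k := k) C Q).O))
  have := IsScalarTower.of_algebraMap_eq (R := k) (S := C) (A := IsLocalRing.ResidueField Q.O) fun a =>
    congrArg (IsLocalRing.residue Q.O) (Subtype.ext (IsScalarTower.algebraMap_apply k C K a))
  exact (Module.finrank_mul_finrank' (R := k) (S := C) (IsLocalRing.ResidueField Q.O)).symm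

variable [Finite k]

theorem frobSum_mul [Algebra.IsAlgebraic k C] [FiniteDimensional k C] (h : FF k K) (hC : FF C K) {j : ℕ} (hj : j ≠ 0) :
    frobSum k K (Module.finrank k C * j) = Module.finrank k C * frobSum C K j := by
  have hc : 0 < Module.finrank k C := Module.finrank_pos
  have : Finite C := Module.finite_of_finite k
  rw [frobSum, frobSum, mul_finsum_mem]
  refine (finsum_mem_eq_of_bijOn (placeDown C) ⟨fun Q hQ => ?_, (placeDown_bijective C).1.injOn, fun P hP => ?_⟩
    fun Q _ => (deg_placeDown C Q).symm).symm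
  · show (placeDown C Q).deg ∣ _
    rw [deg_placeDown]
    exact mul_dvd_mul_left _ hQ
  · obtain ⟨Q, rfl⟩ := (placeDown_bijective C).2 P
    refine ⟨Q, ?_, rfl⟩
    change (placeDown C Q).deg ∣ _ at hP
    rw [deg_placeDown] at hP
    exact Nat.dvd_of_mul_dvd_mul_left hc hP

theorem frobSum_eq_zero_of_not_dvd [Algebra.IsAlgebraic k C] {m : ℕ} (hm : ¬ Module.finrank k C ∣ m) :
    frobSum k K m = 0 := by
  refine finsum_mem_of_eqOn_zero fun P (hP : P.deg ∣ m) => absurd ?_ hm
  obtain ⟨Q, rfl⟩ := (placeDown_bijective C).2 P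
  rw [deg_placeDown] at hP
  exact (dvd_mul_right _ _).trans hP

end Transfer

variable [Finite k]

/-- The asymptotic count over the constants. -/
theorem exists_bound (h : FF k K) :
    ∃ B : ℝ, ∀ j : ℕ, j ≠ 0 →
      |(frobSum k K (Module.finrank k (algebraicClosure k K) * j) : ℝ) -
        Module.finrank k (algebraicClosure k K) * (1 + ((Nat.card k : ℝ) ^ Module.finrank k (algebraicClosure k K)) ^ j)| ≤
        B * Real.sqrt ((Nat.card k : ℝ) ^ Module.finrank k (algebraicClosure k K)) ^ j := by
  let C := algebraicClosure k K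
  have := finite_consts h
  have : Algebra.IsAlgebraic k C := algebraicClosure.isAlgebraic k K
  have : Finite C := Module.finite_of_finite k
  have hK := isFunctionField_consts h
  obtain ⟨α, -, hnorm, hF⟩ := exists_roots_rh hK
  refine ⟨Module.finrank k C * (2 * genus C K), fun j hj => ?_⟩
  have hcard : (Nat.card C : ℝ) = (Nat.card k : ℝ) ^ Module.finrank k C := by
    rw [Module.natCard_eq_pow_finrank (K := k)]
    simp
  rw [frobSum_mul C h hK.1 hj, ← hcard]
  push_cast
  rw [← mul_sub, abs_mul, Nat.abs_cast, mul_assoc]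
  refine mul_le_mul_of_nonneg_left ?_ (Nat.cast_nonneg _)
  have h2 : (((frobSum C K j : ℝ) - (1 + (Nat.card C : ℝ) ^ j) : ℝ) : ℂ) = -∑ i, α i ^ j := by
    push_cast
    rw [hF j hj]
    ring
  rw [← Real.norm_eq_abs, ← Complex.norm_real, h2, norm_neg]
  refine (norm_sum_le _ _).trans (le_of_eq ?_)
  rw [Finset.sum_congr rfl fun i _ => (norm_pow (α i) j).trans (by rw [hnorm i]), Finset.sum_const, Finset.card_univ,
    Fintype.card_fin, nsmul_eq_mul]
  push_cast
  ring

variable {L : Type u} [Field L] [Algebra K L] [Algebra k L] [IsScalarTower k K L] [FiniteDimensional K L]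

theorem frobSum_split (h : FF k K)
    (hsplit : ∀ (P : Place k K) (Q : Place k L), IsOver Q P → ramIdx Q P = 1 ∧ Q.deg = P.deg) {m : ℕ} (hm : m ≠ 0) :
    frobSum k L m = Module.finrank K L * frobSum k K m := by
  classical
  have hL := h.extension L
  choose π e he hπ using fun Q => h.exists_isOverWith (K' := L) Q
  have hover : ∀ Q, IsOver Q (π Q) := fun Q => ⟨e Q, hπ Q⟩
  let SL := (hL.finite_dvd hm).toFinset
  let SK := (h.finite_dvd hm).toFinset
  have hmaps : ∀ Q ∈ SL, π Q ∈ SK := fun Q hQ => by
    rw [Set.Finite.mem_toFinset] at hQ ⊢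
    show (π Q).deg ∣ m
    rw [← (hsplit _ Q (hover Q)).2]
    exact hQ
  rw [frobSum, frobSum, finsum_mem_eq_finite_toFinset_sum _ (hL.finite_dvd hm),
    finsum_mem_eq_finite_toFinset_sum _ (h.finite_dvd hm), Finset.mul_sum, ← Finset.sum_fiberwise_of_maps_to hmaps]
  refine Finset.sum_congr rfl fun P hP => ?_
  rw [← h.sum_ramIdx_mul_deg (K' := L) P (SL.filter fun Q => π Q = P) fun Q => ?_]
  · refine Finset.sum_congr rfl fun Q hQ => ?_
    rw [(hsplit P Q ((Finset.mem_filter.1 hQ).2 ▸ hover Q)).1, one_mul]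
  · rw [Finset.mem_filter, Set.Finite.mem_toFinset]
    refine ⟨fun hQ => hQ.2 ▸ hover Q, fun hQ => ⟨?_, isOver_unique (hover Q) hQ⟩⟩
    show Q.deg ∣ m
    rw [(hsplit P Q hQ).2]
    exact (Set.Finite.mem_toFinset (h.finite_dvd hm)).1 hP

/-- An extension in which all places split completely is trivial. -/
theorem finrank_eq_one_of_split (h : FF k K)
    (hsplit : ∀ (P : Place k K) (Q : Place k L), IsOver Q P → ramIdx Q P = 1 ∧ Q.deg = P.deg) :
    Module.finrank K L = 1 := by
  have hL := h.extension L
  set d := Module.finrank K L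
  set cK := Module.finrank k (algebraicClosure k K)
  set cL := Module.finrank k (algebraicClosure k L)
  have := finite_consts h
  have := finite_consts hL
  have hcK : 0 < cK := Module.finrank_pos
  have hcL : 0 < cL := Module.finrank_pos
  have hd : 0 < d := Module.finrank_pos
  obtain ⟨BK, hBK⟩ := exists_bound h
  obtain ⟨BL, hBL⟩ := exists_bound hL
  set q : ℝ := (Nat.card k : ℝ)
  have hq : 1 < q := Nat.one_lt_cast.2 Finite.one_lt_card
  -- positivity
  have hpos : ∀ᶠ j : ℕ in Filter.atTop, 0 < frobSum k K (cK * j) := by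
    set X := q ^ cK
    have hX : 1 < Real.sqrt X := by
      rw [← Real.sqrt_one]
      exact Real.sqrt_lt_sqrt zero_le_one (one_lt_pow₀ hq hcK.ne')
    filter_upwards [(tendsto_pow_atTop_atTop_of_one_lt hX).eventually_gt_atTop BK, Filter.eventually_gt_atTop 0]
      with j hj hj0
    by_contra h0
    rw [Nat.not_lt, Nat.le_zero] at h0
    have h1 := hBK j hj0.ne'
    rw [h0, Nat.cast_zero, zero_sub, abs_neg, abs_of_nonneg (by positivity)] at h1
    have h2 : X ^ j = Real.sqrt X ^ j * Real.sqrt X ^ j := by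
      rw [← mul_pow, Real.mul_self_sqrt (by positivity)]
    have h3 : (1 : ℝ) * (Real.sqrt X ^ j * Real.sqrt X ^ j) ≤ cK * (1 + X ^ j) := by
      rw [← h2]
      exact mul_le_mul (Nat.one_le_cast.2 hcK) (le_add_of_nonneg_left zero_le_one) (by positivity) (by positivity)
    nlinarith [pow_pos (zero_lt_one.trans hX) j]
  have hdvd : cL ∣ cK := by
    have hev : ∀ᶠ j : ℕ in Filter.atTop, cL ∣ cK * j := by
      filter_upwards [hpos, Filter.eventually_gt_atTop 0] with j hj hj0
      have : Algebra.IsAlgebraic k (algebraicClosure k L) := algebraicClosure.isAlgebraic k L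
      by_contra hn
      have h1 := frobSum_split h hsplit (m := cK * j) (mul_pos hcK hj0).ne'
      rw [frobSum_eq_zero_of_not_dvd (algebraicClosure k L) hn] at h1
      exact (mul_pos hd hj).ne' h1.symm
    obtain ⟨j₀, hj₀⟩ := Filter.eventually_atTop.1 hev
    exact (Nat.dvd_add_right (hj₀ j₀ le_rfl)).1 (by simpa [mul_add] using hj₀ (j₀ + 1) (Nat.le_succ _))
  -- comparison of the leading terms
  have heq : cL = d * cK := by
    by_contra hne
    have hne' : (1 : ℝ) ≤ |(cL : ℝ) - (d : ℝ) * cK| := by
      have : (1 : ℤ) ≤ |(cL : ℤ) - (d * cK : ℕ)| := Int.one_le_abs (sub_ne_zero.2 (by exact_mod_cast hne))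
      exact_mod_cast this
    set X := (q ^ cK) ^ cL
    have hX : 1 < Real.sqrt X := by
      rw [← Real.sqrt_one]
      exact Real.sqrt_lt_sqrt zero_le_one (one_lt_pow₀ (one_lt_pow₀ hq hcK.ne') hcL.ne')
    obtain ⟨j, hj, hj0⟩ := (((tendsto_pow_atTop_atTop_of_one_lt hX).eventually_gt_atTop (|BL| + d * |BK|)).and
      (Filter.eventually_gt_atTop 0)).exists
    have h1 := hBL (cK * j) (mul_pos hcK hj0).ne'
    have h2 := hBK (cL * j) (mul_pos hcL hj0).ne'
    have e1 : (q ^ cL) ^ (cK * j) = X ^ j := by simp only [X, ← pow_mul]; ring_nf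
    have e2 : (q ^ cK) ^ (cL * j) = X ^ j := by simp only [X, ← pow_mul, mul_assoc]
    have s1 : Real.sqrt (q ^ cL) ^ (cK * j) = Real.sqrt X ^ j := by
      rw [Real.sqrt_eq_rpow, Real.sqrt_eq_rpow, ← Real.rpow_mul_natCast (by positivity),
        ← Real.rpow_mul_natCast (by positivity), mul_comm, Real.rpow_natCast_mul (by positivity), e1, mul_comm,
        ← Real.rpow_natCast_mul (by positivity)]
    have s2 : Real.sqrt (q ^ cK) ^ (cL * j) = Real.sqrt X ^ j := by
      rw [Real.sqrt_eq_rpow, Real.sqrt_eq_rpow, ← Real.rpow_mul_natCast (by positivity),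
        ← Real.rpow_mul_natCast (by positivity), mul_comm, Real.rpow_natCast_mul (by positivity), e2, mul_comm,
        ← Real.rpow_natCast_mul (by positivity)]
    rw [e1, s1, frobSum_split h hsplit (mul_pos hcL (mul_pos hcK hj0)).ne', mul_left_comm cL cK j] at h1
    rw [e2, s2] at h2
    push_cast at h1
    set F := (frobSum k K (cK * (cL * j)) : ℝ)
    set S := Real.sqrt X ^ j
    have hS : X ^ j = S * S := by rw [← mul_pow, Real.mul_self_sqrt (by positivity)]
    have hS0 : 0 < S := pow_pos (zero_lt_one.trans hX) j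
    have h3 : |((cL : ℝ) - d * cK) * (1 + X ^ j)| ≤ (|BL| + d * |BK|) * S := by
      rw [show ((cL : ℝ) - d * cK) * (1 + X ^ j) =
        (d : ℝ) * (F - cK * (1 + X ^ j)) - ((d : ℝ) * F - cL * (1 + X ^ j)) by ring]
      refine (abs_sub _ _).trans ?_
      rw [abs_mul, Nat.abs_cast, add_mul, add_comm, mul_assoc]
      exact add_le_add (h1.trans (mul_le_mul_of_nonneg_right (le_abs_self _) hS0.le))
        (mul_le_mul_of_nonneg_left (h2.trans (mul_le_mul_of_nonneg_right (le_abs_self _) hS0.le)) (Nat.cast_nonneg _))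
    rw [abs_mul, abs_of_pos (a := 1 + X ^ j) (by positivity)] at h3
    have h4 : 1 * (1 + X ^ j) ≤ |(cL : ℝ) - d * cK| * (1 + X ^ j) :=
      mul_le_mul_of_nonneg_right hne' (by positivity)
    nlinarith
  have hle := Nat.le_of_dvd hcK hdvd
  rw [heq] at hle
  nlinarith

end Groth.Agent.Sha32
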