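import Groth.Agent.AdelePts32.GlobalField
import Groth.Prelude.Def_AdFn
import Mathlib.FieldTheory.PurelyInseparable.PerfectClosure

/-!
Completions of a global function field are separable extensions: elements algebraic over the field
are separable.
-/

set_option autoImplicit false
universe u

open WithZero IntermediateField

noncomputable section

namespace Groth.Agent.Sha32

variable {p : ℕ} [hp : Fact p.Prime]

/-- Descent of separability along a `p`-th root when `π` stays a non-`p`-th power. -/
theorem isSeparable_of_pow {K F : Type u} [Field K] [Field F] [Algebra K F] [CharP K p] [CharP F p] {π : K}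
    (hspan : AdelePts32.PSpans p π) (hπ : ∀ y : F, y ^ p ≠ algebraMap K F π) {y : F} (hy : IsSeparable K (y ^ p)) :
    IsSeparable K y := by
  classical
  have : ExpChar K p := ExpChar.prime hp.out
  let E := K⟮y ^ p⟯
  have : Algebra.IsSeparable K E := (isSeparable_adjoin_simple_iff_isSeparable K F).2 hy
  have : FiniteDimensional K E := adjoin.finiteDimensional hy.isIntegral
  let b := Module.finBasis K E
  have hb := Field.span_map_pow_expChar_pow_eq_top_of_isSeparable (F := K) (E := E) p 1 (v := b) b.span_eq
  have hz : (⟨y ^ p, mem_adjoin_simple_self K _⟩ : E) ∈ Submodule.span K (Set.range fun i => b i ^ p ^ 1) :=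
    hb ▸ Submodule.mem_top
  obtain ⟨c, hc⟩ := (Submodule.mem_span_range_iff_exists_fun K).1 hz
  choose d hd using fun i => hspan (c i)
  let e : Fin p → E := fun j => ∑ i, d i j • b i
  have : CharP E p := charP_of_injective_algebraMap (algebraMap K E).injective p
  have he : y ^ p = ∑ j, (e j : F) ^ p * algebraMap K F π ^ (j : ℕ) := by
    have h1 : (⟨y ^ p, mem_adjoin_simple_self K _⟩ : E) = ∑ j, e j ^ p * algebraMap K E π ^ (j : ℕ) := by
      rw [← hc]
      simp only [e, sum_pow_char, Finset.sum_mul, pow_one]
      rw [Finset.sum_comm]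
      refine Finset.sum_congr rfl fun i _ => ?_
      conv_lhs => rw [hd i, Finset.sum_smul]
      refine Finset.sum_congr rfl fun j _ => ?_
      simp only [Algebra.smul_def, map_mul, map_pow, mul_pow]
      ring
    have h2 := congrArg E.val h1
    simpa using h2
  let j₀ : Fin p := ⟨0, hp.out.pos⟩
  have h0 := AdelePts32.pIndep hπ (fun j => (e j : F) - if j = j₀ then y else 0) (by
    simp only [sub_pow_char, sub_mul, Finset.sum_sub_distrib]
    rw [← he, Finset.sum_eq_single j₀ (fun j _ hj => by rw [if_neg hj, zero_pow hp.out.ne_zero, zero_mul])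
      (fun h => absurd (Finset.mem_univ _) h), if_pos rfl, pow_zero, mul_one, sub_self])
  have h3 := congrFun h0 j₀
  simp only [if_pos, Pi.zero_apply, sub_eq_zero] at h3
  rw [← h3]
  exact (isSeparable_map_iff E.val E.val.injective).2 (Algebra.IsSeparable.isSeparable K (e j₀))

theorem isSeparable_of_isAlgebraic_of_pi {K F : Type u} [Field K] [Field F] [Algebra K F] [CharP K p] [CharP F p]
    {π : K} (hspan : AdelePts32.PSpans p π) (hπ : ∀ y : F, y ^ p ≠ algebraMap K F π) {a : F} (ha : IsAlgebraic K a) :
    IsSeparable K a := by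
  have : ExpChar K p := ExpChar.prime hp.out
  obtain ⟨g, hg, n, hn⟩ := (minpoly.irreducible (isAlgebraic_iff_isIntegral.1 ha)).hasSeparableContraction p
  have h : IsSeparable K (a ^ p ^ n) := by
    refine Polynomial.Separable.of_dvd hg (minpoly.dvd K _ ?_)
    rw [← Polynomial.expand_aeval, hn, minpoly.aeval]
  clear hn
  induction n with
  | zero => simpa using h
  | succ n ih => exact ih (isSeparable_of_pow hspan hπ (by rwa [← pow_mul, ← pow_succ]))

variable {k K : Type u} [Field k] [Finite k] [Field K] [Algebra (RatFunc k) K] [FiniteDimensional (RatFunc k) K]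
  [Algebra k K] [IsScalarTower k (RatFunc k) K]

omit hp in
include k in
/-- Elements of a completion algebraic over the field are separable. -/
theorem isSeparable_Kv (v : FunFld.Place k K) {a : AdFn.Kv v} (ha : IsAlgebraic K a) : IsSeparable K a := by
  obtain ⟨p, hk⟩ := CharP.exists k
  have hp : Fact p.Prime := ⟨CharP.char_is_prime k p⟩
  have : CharP K p := charP_of_injective_algebraMap (algebraMap k K).injective p
  have : CharP (AdFn.Kv v) p := charP_of_injective_algebraMap (algebraMap K (AdFn.Kv v)).injective p
  obtain ⟨t, -, ht⟩ := FF30.exists_uniformizer v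
  have hπ : ∀ y : AdFn.Kv v, y ^ p ≠ algebraMap K (AdFn.Kv v) t := fun y hy => by
    have h := congrArg Valued.v hy
    rw [map_pow, AdFn.valued_toKv, ht] at h
    rcases eq_or_ne (Valued.v y) 0 with h0 | h0
    · rw [h0, zero_pow hp.out.ne_zero] at h
      exact exp_ne_zero h.symm
    · rw [← exp_log h0, ← exp_nsmul, exp_inj, nsmul_eq_mul] at h
      have hd : (p : ℤ) ∣ 1 := ⟨-log (Valued.v y), by linarith⟩
      have := Int.natCast_dvd_natCast.1 (by exact_mod_cast hd : (p : ℤ) ∣ ((1 : ℕ) : ℤ))
      exact hp.out.not_dvd_one this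
  refine isSeparable_of_isAlgebraic_of_pi (π := t) (AdelePts32.pSpans (k := k) fun y hy => hπ (algebraMap K (AdFn.Kv v) y) ?_) hπ ha
  rw [← map_pow, hy]

end Groth.Agent.Sha32
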